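import Cfsg.Agent.Lib.CoThreeUnique.Cover
import Cfsg.Agent.Lib.Schur.AlternatingBound
import Cfsg.Agent.Lib.AltCentral.Basic

/-!
# Uniqueness of the non-split double cover of the alternating group of degree eight

The derived group of the fibre product is a stem extension, so its kernel has order at most two.
-/

set_option autoImplicit false

namespace CfsgLib.McLUnique

open CfsgLib.CoThreeUnique (cover_derived_perfect bijective_of_cover perfect_of_cover)

/-- Any two non-split double covers of the alternating group of degree eight are isomorphic. -/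
theorem nonempty_mulEquiv_of_doubleCover {H K : Type*} [Group H] [Group K] [Finite H] [Finite K]
    (hH : Cfsg.IsNonsplitDoubleCover H (alternatingGroup (Fin 8)))
    (hK : Cfsg.IsNonsplitDoubleCover K (alternatingGroup (Fin 8))) :
    Nonempty (H ≃* K) := by
  have hQ : commutator (alternatingGroup (Fin 8)) = ⊤ := CfsgLib.AltCentral.commutator_alt (by norm_num)
  obtain ⟨hHc, ⟨eH⟩, hHs⟩ := hH
  obtain ⟨hKc, ⟨eK⟩, hKs⟩ := hK
  let πH : H →* alternatingGroup (Fin 8) :=
    eH.toMonoidHom.comp (QuotientGroup.mk' (Subgroup.center H))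
  let πK : K →* alternatingGroup (Fin 8) :=
    eK.toMonoidHom.comp (QuotientGroup.mk' (Subgroup.center K))
  have hsH : Function.Surjective πH := eH.surjective.comp (QuotientGroup.mk'_surjective _)
  have hsK : Function.Surjective πK := eK.surjective.comp (QuotientGroup.mk'_surjective _)
  have hkH : πH.ker = Subgroup.center H := by
    ext x
    simp [πH]
  have hkK : πK.ker = Subgroup.center K := by
    ext x
    simp [πK]
  -- the fibre product and its derived group
  let P : Subgroup (H × K) :=
    MonoidHom.eqLocus (πH.comp (MonoidHom.fst H K)) (πK.comp (MonoidHom.snd H K))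
  let σ : ↥P →* alternatingGroup (Fin 8) :=
    (πH.comp (MonoidHom.fst H K)).comp P.subtype
  have hσ : Function.Surjective σ := fun g => by
    obtain ⟨h, rfl⟩ := hsH g
    obtain ⟨k, hk⟩ := hsK (πH h)
    exact ⟨⟨(h, k), hk.symm⟩, rfl⟩
  have hσc : σ.ker ≤ Subgroup.center ↥P := fun x hx => Subgroup.mem_center_iff.2 fun y => by
    have h1 : x.1.1 ∈ Subgroup.center H := hkH ▸ hx
    have h2 : x.1.2 ∈ Subgroup.center K := hkK ▸ (by
      have := x.2
      rw [MonoidHom.mem_ker]
      exact this.symm.trans hx)
    exact Subtype.ext (Prod.ext (Subgroup.mem_center_iff.1 h1 _) (Subgroup.mem_center_iff.1 h2 _))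
  obtain ⟨hτ, hperf⟩ := cover_derived_perfect σ hσ hσc hQ
  let τ : ↥(commutator ↥P) →* alternatingGroup (Fin 8) := σ.comp (commutator ↥P).subtype
  have hτc : τ.ker ≤ Subgroup.center ↥(commutator ↥P) := fun x hx =>
    Subgroup.mem_center_iff.2 fun y => Subtype.ext (Subgroup.mem_center_iff.1 (hσc hx) y.1)
  have hkcard : Nat.card τ.ker ≤ 2 := by
    let π : ↥(commutator ↥P) →* Equiv.Perm (Fin 8) := (alternatingGroup (Fin 8)).subtype.comp τ
    have hk : π.ker = τ.ker := by
      rw [← MonoidHom.comap_ker, Subgroup.ker_subtype, MonoidHom.comap_bot]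
    rw [← hk]
    refine CfsgLib.AltMult.card_ker_le_two (by norm_num) (by norm_num) (by norm_num) π (hk ▸ hτc) ?_ ?_
    · rw [hperf]
      exact le_top
    · rw [MonoidHom.range_comp, MonoidHom.range_eq_top.2 hτ, ← MonoidHom.range_eq_map,
        Subgroup.range_subtype]
  have hcardE : Nat.card ↥(commutator ↥P) ≤ 2 * Nat.card (alternatingGroup (Fin 8)) := by
    rw [← Subgroup.card_mul_index τ.ker, Subgroup.index_ker, MonoidHom.range_eq_top.2 hτ,
      Subgroup.card_top]
    exact Nat.mul_le_mul_right _ hkcard
  have bH := bijective_of_cover τ hτ hcardE πH hsH hkH hHc (perfect_of_cover πH hsH hkH hHc hQ hHs)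
    (((MonoidHom.fst H K).comp P.subtype).comp (commutator ↥P).subtype) rfl
  have bK := bijective_of_cover τ hτ hcardE πK hsK hkK hKc (perfect_of_cover πK hsK hkK hKc hQ hKs)
    (((MonoidHom.snd H K).comp P.subtype).comp (commutator ↥P).subtype)
    (by ext1 x; exact (x.1.2).symm)
  exact ⟨(MulEquiv.ofBijective _ bH).symm.trans (MulEquiv.ofBijective _ bK)⟩

end CfsgLib.McLUnique
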