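import Cfsg.Agent.Lib.SpecAlt.DoubleCover
import Cfsg.Agent.Lib.CoThreeUnique.Cover
import Cfsg.Agent.Lib.AltCentral.Basic

/-!
A non-split double cover of the alternating group of degree eight has one class of non-central involutions.

An involution outside the centre lies over an involution of the alternating group whose cycle type is `2^4`,
because lifts of the type `2^2` have order four; the two lifts of such a permutation are conjugate, because
lifts of double transpositions on four points anticommute.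
-/

set_option autoImplicit false

namespace CfsgLib.McLUnique

open Subgroup Equiv
open scoped commutatorElement
open CfsgLib.AltMult (dt conj_dt)
open CfsgLib.SpecAlt (IsCover)

universe u

variable {C : Type u} [Group C]

/-- The map of a double cover to permutations. -/
theorem exists_isCover (h : Cfsg.IsNonsplitDoubleCover C (alternatingGroup (Fin 8))) :
    ∃ π : C →* Perm (Fin 8), IsCover π ∧ π.ker = center C := by
  obtain ⟨hcard, ⟨q⟩, hns⟩ := h
  let p : C →* alternatingGroup (Fin 8) := q.toMonoidHom.comp (QuotientGroup.mk' (center C))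
  have hps : Function.Surjective p := q.surjective.comp (QuotientGroup.mk'_surjective _)
  have hpk : p.ker = center C := by
    ext g
    rw [MonoidHom.mem_ker]
    change q (QuotientGroup.mk' (center C) g) = 1 ↔ _
    rw [EmbeddingLike.map_eq_one_iff, QuotientGroup.mk'_apply, QuotientGroup.eq_one_iff]
  refine ⟨(alternatingGroup (Fin 8)).subtype.comp p, ?_, ?_⟩
  · have hk : ((alternatingGroup (Fin 8)).subtype.comp p).ker = center C := by
      rw [← hpk, ← MonoidHom.comap_ker, Subgroup.ker_subtype, MonoidHom.comap_bot]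
    refine ⟨hk.le, CfsgLib.CoThreeUnique.perfect_of_cover p hps hpk hcard
      (CfsgLib.AltCentral.commutator_alt (by norm_num)) hns, ?_, hk.symm ▸ hcard, hk.ge⟩
    rw [MonoidHom.range_comp, MonoidHom.range_eq_top.2 hps, ← MonoidHom.range_eq_map,
      Subgroup.range_subtype]
  · rw [← hpk, ← MonoidHom.comap_ker, Subgroup.ker_subtype, MonoidHom.comap_bot]

theorem comm_std : dt (0 : Fin 8) 2 1 3 * dt 0 1 2 3 = dt 0 1 2 3 * dt 0 2 1 3 := by decide

theorem disjoint_std : Perm.Disjoint (dt (0 : Fin 8) 2 1 3) (dt 4 5 6 7) := fun x => by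
  revert x; decide

theorem cycleType_two : (dt (0 : Fin 8) 1 2 3).cycleType = ({2, 2} : Multiset ℕ) := by decide +kernel

theorem cycleType_four :
    (dt (0 : Fin 8) 1 2 3 * dt 4 5 6 7).cycleType = ({2, 2, 2, 2} : Multiset ℕ) := by decide +kernel

theorem swap_comm_std :
    swap (0 : Fin 8) 1 * (dt 0 1 2 3 * dt 4 5 6 7) = dt 0 1 2 3 * dt 4 5 6 7 * swap 0 1 := by decide

variable [Finite C] {π : C →* Perm (Fin 8)}

/-- An involution outside the kernel lies over a product of four transpositions. -/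
theorem cycleType_of_involution (h : IsCover π) {u : C} (hu : u * u = 1) (huk : π u ≠ 1) :
    ∃ σ : Perm (Fin 8), π u = σ * (dt 0 1 2 3 * dt 4 5 6 7) * σ⁻¹ := by
  have ho : orderOf (π u) = 2 :=
    orderOf_eq_prime (by rw [pow_two, ← map_mul, hu, map_one]) huk
  obtain ⟨n, hn⟩ := Perm.cycleType_prime_order (σ := π u) (ho ▸ Nat.prime_two)
  rw [ho] at hn
  have hs : Perm.sign (π u) = 1 := Perm.mem_alternatingGroup.1 (h.range_eq ▸ ⟨u, rfl⟩)
  rw [Perm.sign_of_cycleType, hn] at hs
  have hle := Perm.sum_cycleType_le (π u)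
  rw [hn] at hle
  simp only [Multiset.sum_replicate, Multiset.card_replicate, smul_eq_mul, Fintype.card_fin] at hs hle
  have hn' : n = 1 ∨ n = 3 := by
    have : n ≤ 3 := by omega
    interval_cases n
    · exact absurd hs (by decide)
    · exact Or.inl rfl
    · exact absurd hs (by decide)
    · exact Or.inr rfl
  rcases hn' with rfl | rfl
  · exfalso
    obtain ⟨σ, hσ⟩ := isConj_iff.1 (Perm.isConj_of_cycleType_eq (cycleType_two.trans hn.symm))
    rw [conj_dt] at hσ
    exact h.dt_sq_ne (by norm_num) (σ.injective.ne (by decide)) (σ.injective.ne (by decide))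
      (σ.injective.ne (by decide)) (σ.injective.ne (by decide)) (σ.injective.ne (by decide))
      (σ.injective.ne (by decide)) hσ.symm hu
  · obtain ⟨σ, hσ⟩ := isConj_iff.1 (Perm.isConj_of_cycleType_eq (cycleType_four.trans hn.symm))
    exact ⟨σ, hσ.symm⟩

theorem ker_cases (h : IsCover π) {z : C} (hz : π z = 1) (hz1 : z ≠ 1) {k : C} (hk : π k = 1) :
    k = 1 ∨ k = z :=
  (eq_or_ne k 1).imp id fun hk1 => h.ker_eq_of_ne hk hz hk1 hz1

/-- An involution outside the centre is conjugate to its product with the central involution. -/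
theorem isConj_mul_z (h : IsCover π) {z : C} (hz : π z = 1) (hz1 : z ≠ 1) {u : C} (hu : u * u = 1)
    (huk : π u ≠ 1) : IsConj u (u * z) := by
  obtain ⟨σ, hσ⟩ := cycleType_of_involution h hu huk
  have hsign : ∀ a b c d : Fin 8, a ≠ b → c ≠ d → Perm.sign (dt a b c d) = 1 := fun a b c d ab cd => by
    rw [dt, map_mul, Perm.sign_swap ab, Perm.sign_swap cd]; rfl
  have hconj : ∀ p : Perm (Fin 8), Perm.sign p = 1 → ∃ g, π g = σ * p * σ⁻¹ := fun p hp =>
    h.exists_lift (by rw [map_mul, map_mul, map_inv, hp, mul_one, mul_inv_cancel])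
  obtain ⟨U, hU⟩ := hconj (dt 0 1 2 3) (hsign _ _ _ _ (by decide) (by decide))
  obtain ⟨V, hV⟩ := hconj (dt 4 5 6 7) (hsign _ _ _ _ (by decide) (by decide))
  obtain ⟨w, hw⟩ := hconj (dt 0 2 1 3) (hsign _ _ _ _ (by decide) (by decide))
  have hVw : Commute w V := h.commute_of_disjoint (by rw [hw, hV]; exact disjoint_std.conj σ)
  have hne : ⁅w, U⁆ ≠ 1 := by
    refine h.anticomm (a := σ 0) (b := σ 1) (c := σ 2) (d := σ 3) (by norm_num) ?_ ?_ ?_ ?_ ?_ ?_
      (by rw [hU, conj_dt]) (by rw [hw, conj_dt])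
    all_goals exact σ.injective.ne (by decide)
  have hker : π ⁅w, U⁆ = 1 := by
    have : Commute (π w) (π U) := by
      rw [hw, hU, commute_iff_eq]
      calc σ * dt 0 2 1 3 * σ⁻¹ * (σ * dt 0 1 2 3 * σ⁻¹) = σ * (dt 0 2 1 3 * dt 0 1 2 3) * σ⁻¹ := by group
        _ = σ * (dt 0 1 2 3 * dt 0 2 1 3) * σ⁻¹ := by rw [comm_std]
        _ = _ := by group
    rw [map_commutatorElement, commutatorElement_eq_one_iff_commute.2 this]
  have hwU : ⁅w, U⁆ = z := h.ker_eq_of_ne hker hz hne hz1
  have hk : π ((U * V)⁻¹ * u) = 1 := by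
    rw [map_mul, map_inv, map_mul, hU, hV, hσ]; group
  refine isConj_iff.2 ⟨w, ?_⟩
  have hzc : ∀ g, Commute z g := fun g => (Subgroup.mem_center_iff.1 (h.central hz) g).symm
  have hkc : Commute w ((U * V)⁻¹ * u) := Subgroup.mem_center_iff.1 (h.central hk) w
  calc w * u * w⁻¹ = w * (U * V) * (((U * V)⁻¹ * u) * w⁻¹) := by group
    _ = w * (U * V) * (w⁻¹ * ((U * V)⁻¹ * u)) := by rw [hkc.inv_left.eq]
    _ = ⁅w, U⁆ * U * (w * V * w⁻¹) * ((U * V)⁻¹ * u) := by rw [commutatorElement_def]; group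
    _ = z * (U * V * ((U * V)⁻¹ * u)) := by rw [hwU, hVw.eq, mul_inv_cancel_right]; group
    _ = u * z := by rw [mul_inv_cancel_left, (hzc u).eq]

/-- Two involutions outside the centre are conjugate. -/
theorem isConj_involutions (h : IsCover π) {z : C} (hz : π z = 1) (hz1 : z ≠ 1) {u v : C}
    (hu : u * u = 1) (huk : π u ≠ 1) (hv : v * v = 1) (hvk : π v ≠ 1) : IsConj u v := by
  obtain ⟨σ, hσ⟩ := cycleType_of_involution h hu huk
  obtain ⟨τ, hτ⟩ := cycleType_of_involution h hv hvk
  obtain ⟨ρ, hρs, hρ⟩ : ∃ ρ : Perm (Fin 8), Perm.sign ρ = 1 ∧ ρ * π u * ρ⁻¹ = π v := by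
    rcases Int.units_eq_one_or (Perm.sign (τ * σ⁻¹)) with e | e
    · exact ⟨τ * σ⁻¹, e, by rw [hσ, hτ]; group⟩
    · refine ⟨τ * swap 0 1 * σ⁻¹, ?_, ?_⟩
      · rw [map_mul, map_inv] at e
        rw [map_mul, map_mul, map_inv, Perm.sign_swap (by decide), mul_right_comm, e]
        rfl
      · rw [hσ, hτ]
        calc τ * swap 0 1 * σ⁻¹ * (σ * (dt 0 1 2 3 * dt 4 5 6 7) * σ⁻¹) * (τ * swap 0 1 * σ⁻¹)⁻¹
            = τ * (swap 0 1 * (dt 0 1 2 3 * dt 4 5 6 7)) * (swap 0 1)⁻¹ * τ⁻¹ := by group
          _ = _ := by rw [swap_comm_std]; group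
  obtain ⟨r, hr⟩ := h.exists_lift hρs
  have hk : π (v⁻¹ * (r * u * r⁻¹)) = 1 := by
    rw [map_mul, map_inv, map_mul, map_mul, map_inv, hr, hρ, inv_mul_cancel]
  have huv : IsConj u (r * u * r⁻¹) := isConj_iff.2 ⟨r, rfl⟩
  rcases ker_cases h hz hz1 hk with e | e
  · rw [inv_mul_eq_one] at e
    exact e ▸ huv
  · rw [inv_mul_eq_iff_eq_mul] at e
    exact huv.trans (e ▸ (isConj_mul_z h hz hz1 hv hvk).symm)

/-- In an involution centraliser that is a non-split double cover of the alternating group of degree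
eight, all other involutions are conjugate. -/
theorem isConj_of_centralizer {G : Type u} [Group G] [Finite G] {t : G} (ht : orderOf t = 2)
    (h : Cfsg.IsNonsplitDoubleCover (centralizer ({t} : Set G)) (alternatingGroup (Fin 8)))
    {u v : centralizer ({t} : Set G)} (hu : orderOf u = 2) (hut : (u : G) ≠ t)
    (hv : orderOf v = 2) (hvt : (v : G) ≠ t) : IsConj u v := by
  obtain ⟨π, hπ, hker⟩ := exists_isCover h
  let z : centralizer ({t} : Set G) := ⟨t, mem_centralizer_singleton_iff.2 rfl⟩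
  have hzc : z ∈ center (centralizer ({t} : Set G)) :=
    mem_center_iff.2 fun x => Subtype.ext (mem_centralizer_singleton_iff.1 x.2)
  have hz : π z = 1 := by rw [← MonoidHom.mem_ker, hker]; exact hzc
  have hz1 : z ≠ 1 := fun e => by
    have h1 : t = 1 := congrArg Subtype.val e
    rw [h1, orderOf_one] at ht
    omega
  have key : ∀ x : centralizer ({t} : Set G), orderOf x = 2 → (x : G) ≠ t → x * x = 1 ∧ π x ≠ 1 := by
    intro x hx hxt
    refine ⟨by rw [← pow_two, ← hx, pow_orderOf_eq_one], fun e => ?_⟩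
    rcases ker_cases hπ hz hz1 e with e | e
    · rw [e, orderOf_one] at hx; omega
    · exact hxt (congrArg Subtype.val e)
  exact isConj_involutions hπ hz hz1 (key u hu hut).1 (key u hu hut).2 (key v hv hvt).1 (key v hv hvt).2

end CfsgLib.McLUnique
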