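import Cfsg.Agent.Lib.Involutions.BrauerSuzuki
import Cfsg.Agent.Lib.Involutions.Basic
import Cfsg.Prelude.Def_SporadicB
import Cfsg.Prelude.Def_TwoFusion
import Cfsg.Agent.Lib.PCore.Basic
import Mathlib.GroupTheory.SpecificGroups.Alternating.Simple

/-!
Fusion of involutions in a group with a centraliser of an involution of shape `2.A8`.
-/

set_option autoImplicit false
set_option linter.style.haveILetI false

namespace CfsgLib.McLUnique

open Cfsg CfsgLib.Involutions

universe u

variable {G : Type u} [Group G] [Finite G] {t : G}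

/-- a normal subgroup of odd order on which the three involutions of a four group act without fixed
points is trivial -/
theorem eq_bot_of_four_group {X : Type*} [Group X] [Finite X] {N : Subgroup X} (hN : N.Normal)
    {v w : X} (hv : v * v = 1) (hw : w * w = 1) (hvw : v * w = w * v)
    (h1 : ∀ o ∈ N, o * v = v * o → o = 1) (h2 : ∀ o ∈ N, o * w = w * o → o = 1)
    (h3 : ∀ o ∈ N, o * (v * w) = (v * w) * o → o = 1) : N = ⊥ := by
  classical
  have key : ∀ u : X, u * u = 1 → (∀ o ∈ N, o * u = u * o → o = 1) → ∀ y ∈ N, u * y * u = y⁻¹ := by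
    intro u hu hfix y hy
    have hu' : u⁻¹ = u := inv_eq_of_mul_eq_one_right hu
    have hmem : ∀ o ∈ N, o⁻¹ * (u * o * u) ∈ N := fun o ho =>
      N.mul_mem (N.inv_mem ho) (by simpa [hu'] using hN.conj_mem o ho u)
    have hinj : Function.Injective (fun o : N => (⟨_, hmem o o.2⟩ : N)) := by
      intro o p h
      have h' : (o : X)⁻¹ * (u * o * u) = (p : X)⁻¹ * (u * p * u) := congrArg Subtype.val h
      have hq := hfix ((p : X) * (o : X)⁻¹) (N.mul_mem p.2 (N.inv_mem o.2)) ?_
      · exact Subtype.ext (mul_inv_eq_one.1 hq).symm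
      · have h'' : (p : X) * (o : X)⁻¹ = (u * p * u) * (u * o * u)⁻¹ := by
          rw [eq_mul_inv_iff_mul_eq, mul_assoc, h', mul_inv_cancel_left]
        conv_rhs => rw [h'', mul_inv_rev, mul_inv_rev, hu']
        simp only [← mul_assoc, hu, one_mul]
        simp only [mul_assoc, hu, mul_one]
    obtain ⟨o, ho⟩ := (Finite.injective_iff_surjective.1 hinj) ⟨y, hy⟩
    have ho' : (o : X)⁻¹ * (u * o * u) = y := congrArg Subtype.val ho
    rw [← ho', mul_inv_rev, inv_inv, mul_inv_rev, mul_inv_rev, hu']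
    simp only [← mul_assoc]
    simp only [mul_assoc, hu, mul_one]
  rw [Subgroup.eq_bot_iff_forall]
  intro y hy
  refine h3 y hy ?_
  have e1 := key v hv h1 y hy
  have e2 := key w hw h2 y⁻¹ (N.inv_mem hy)
  rw [inv_inv] at e2
  have h' : v * w * (v * w) = 1 := by
    rw [mul_assoc, ← mul_assoc w, ← hvw, mul_assoc v, hw, mul_one, hv]
  calc y * (v * w) = (w * y⁻¹ * w) * (v * w) := by rw [e2]
    _ = w * (v * y * v) * (w * (v * w)) := by rw [e1]; simp [mul_assoc]
    _ = (w * v) * y * (v * w * (v * w)) := by simp [mul_assoc]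
    _ = v * w * y := by rw [h', mul_one, ← hvw]

/-- The centraliser has no normal subgroup of odd order but the trivial one. -/
theorem eq_bot_of_odd_normal {C : Type u} [Group C] [Finite C]
    (hcov : Cfsg.IsNonsplitDoubleCover C (alternatingGroup (Fin 8))) {N : Subgroup C} (hN : N.Normal)
    (hodd : Odd (Nat.card N)) : N = ⊥ := by
  obtain ⟨h2, ⟨e⟩, -⟩ := hcov
  haveI : IsSimpleGroup (alternatingGroup (Fin 8)) := alternatingGroup.isSimpleGroup (by simp)
  set f : C →* alternatingGroup (Fin 8) := e.toMonoidHom.comp (QuotientGroup.mk' (Subgroup.center C)) with hf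
  have hfs : Function.Surjective f := e.surjective.comp (QuotientGroup.mk'_surjective _)
  have hdvd : Nat.card (N.map f) ∣ Nat.card N := Subgroup.card_map_dvd _ _
  have hbot : N.map f = ⊥ := by
    rcases (hN.map f hfs).eq_bot_or_eq_top with h | h
    · exact h
    · exfalso
      rw [h, Subgroup.card_top] at hdvd
      have h8 : 2 ∣ Nat.card (alternatingGroup (Fin 8)) := by
        rw [nat_card_alternatingGroup, Nat.card_fin]; decide
      exact Nat.not_even_iff_odd.2 hodd (even_iff_two_dvd.2 (h8.trans hdvd))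
  have hle : N ≤ Subgroup.center C := fun x hx => by
    have h : f x = 1 := by rw [← Subgroup.mem_bot, ← hbot]; exact ⟨x, hx, rfl⟩
    exact (QuotientGroup.eq_one_iff x).1 (e.injective (h.trans (map_one e).symm))
  have h1 : Nat.card N ∣ 2 := h2 ▸ Subgroup.card_dvd_of_le hle
  rcases (Nat.dvd_prime Nat.prime_two).1 h1 with h | h
  · exact Subgroup.eq_bot_of_card_eq N h
  · rw [h] at hodd; exact absurd hodd (by decide)

/-- The fusion: the group is `C(t)O(G)`, or it has trivial odd core, one class of involutions and an element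
cycling `t, a, ta`. -/
theorem fusion_cases (ht : orderOf t = 2)
    (hcov : Cfsg.IsNonsplitDoubleCover (Subgroup.centralizer ({t} : Set G)) (alternatingGroup (Fin 8)))
    (hone : ∀ u ∈ Subgroup.centralizer ({t} : Set G), ∀ v ∈ Subgroup.centralizer ({t} : Set G),
      orderOf u = 2 → orderOf v = 2 → u ≠ t → v ≠ t →
        ∃ c ∈ Subgroup.centralizer ({t} : Set G), c * u * c⁻¹ = v) :
    Subgroup.centralizer ({t} : Set G) ⊔ Cfsg.oddCore G = ⊤ ∨
      (Cfsg.oddCore G = ⊥ ∧ (∀ u : G, orderOf u = 2 → IsConj t u) ∧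
        ∀ a ∈ Subgroup.centralizer ({t} : Set G), orderOf a = 2 → a ≠ t →
          ∃ g : G, g * t * g⁻¹ = a ∧ g * a * g⁻¹ = t * a) := by
  haveI : Fact (Nat.Prime 2) := ⟨Nat.prime_two⟩
  haveI hOn : (Cfsg.oddCore G).Normal := Cfsg.pPrimeCore_normal 2 G
  have hOodd : Odd (Nat.card (Cfsg.oddCore G)) := by
    rw [← Nat.not_even_iff_odd, even_iff_two_dvd]
    exact CfsgLib.PCore.not_dvd_card_pPrimeCore
  have htt := CfsgLib.Involutions.mul_self_eq_one ht
  have hmem : ∀ x : G, x ∈ Subgroup.centralizer ({t} : Set G) ↔ x * t = t * x := fun _ =>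
    Subgroup.mem_centralizer_singleton_iff
  by_cases hiso : Cfsg.IsIsolatedInvolution t
  · left
    have hz := CfsgLib.Involutions.zstar G t hiso
    rw [eq_top_iff]
    intro g _
    have hx : g * t * g⁻¹ * t⁻¹ ∈ Cfsg.oddCore G := hz g
    have hy : orderOf (g * t * g⁻¹) = 2 := (orderOf_conj_eq g t).trans ht
    rw [inv_eq_self_of_involution ht] at hx
    have hodd : Odd (orderOf (g * t * g⁻¹ * t)) :=
      hOodd.of_dvd_nat ((Subgroup.orderOf_mk _ hx).symm ▸ orderOf_dvd_natCard (⟨_, hx⟩ : Cfsg.oddCore G))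
    obtain ⟨m, hm⟩ := hodd
    set d := (g * t * g⁻¹ * t) ^ (m : ℤ)
    have hd : d * (g * t * g⁻¹) * d⁻¹ = t := by
      have h := conj_by_zpow hy ht (m : ℤ) 0
      rw [zpow_zero, one_mul] at h
      rw [h, add_zero]
      have h2 : (g * t * g⁻¹ * t) ^ (2 * (m : ℤ)) = (g * t * g⁻¹ * t)⁻¹ := by
        apply eq_inv_of_mul_eq_one_left
        have := pow_orderOf_eq_one (g * t * g⁻¹ * t)
        rw [hm, pow_succ] at this
        exact_mod_cast this
      rw [h2, mul_inv_rev, inv_eq_self_of_involution ht, inv_eq_self_of_involution hy, mul_assoc,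
        CfsgLib.Involutions.mul_self_eq_one hy, mul_one]
    have hdg : d * g ∈ Subgroup.centralizer ({t} : Set G) := by
      rw [hmem, ← mul_inv_eq_iff_eq_mul]
      calc d * g * t * (d * g)⁻¹ = d * (g * t * g⁻¹) * d⁻¹ := by group
        _ = t := hd
    have hdO : d ∈ Cfsg.oddCore G := Subgroup.zpow_mem _ hx _
    rw [show g = d⁻¹ * (d * g) by group]
    exact mul_mem (Subgroup.mem_sup_right (inv_mem hdO)) (Subgroup.mem_sup_left hdg)
  · right
    obtain ⟨g₀, hg₀, hg₀'⟩ : ∃ g : G, Commute t (g * t * g⁻¹) ∧ g * t * g⁻¹ ≠ t := by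
      by_contra h
      push Not at h
      exact hiso ⟨ht, h⟩
    have hu₀ : g₀ * t * g₀⁻¹ ∈ Subgroup.centralizer ({t} : Set G) := (hmem _).2 hg₀.eq.symm
    have hu₀2 : orderOf (g₀ * t * g₀⁻¹) = 2 := (orderOf_conj_eq g₀ t).trans ht
    have hC : ∀ v ∈ Subgroup.centralizer ({t} : Set G), orderOf v = 2 → IsConj t v := by
      intro v hv hv2
      by_cases hvt : v = t
      · exact hvt ▸ IsConj.refl t
      obtain ⟨c, -, hc⟩ := hone _ hu₀ v hv hu₀2 hv2 hg₀' hvt
      exact (isConj_iff.2 ⟨g₀, rfl⟩ : IsConj t (g₀ * t * g₀⁻¹)).trans (isConj_iff.2 ⟨c, hc⟩)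
    have hall : ∀ y : G, orderOf y = 2 → IsConj t y := by
      intro y hy
      by_contra hny
      obtain ⟨w, hw, hwt, hwy⟩ := exists_common_involution ht hy hny
      obtain ⟨k, rfl⟩ := isConj_iff.1 (hC w ((hmem w).2 hwt.eq) hw)
      have hy' : k⁻¹ * y * k ∈ Subgroup.centralizer ({t} : Set G) := by
        rw [hmem]
        calc k⁻¹ * y * k * t = k⁻¹ * (y * (k * t * k⁻¹)) * k := by group
          _ = k⁻¹ * (k * t * k⁻¹ * y) * k := by rw [hwy.eq]
          _ = t * (k⁻¹ * y * k) := by group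
      have h2 : orderOf (k⁻¹ * y * k) = 2 := by
        have := orderOf_conj_eq k⁻¹ y
        rw [inv_inv] at this
        exact this.trans hy
      exact hny ((hC _ hy' h2).trans (isConj_iff.2 ⟨k, by group⟩))
    have hswap : ∀ a ∈ Subgroup.centralizer ({t} : Set G), orderOf a = 2 → a ≠ t →
        orderOf (t * a) = 2 ∧ t * a ≠ t ∧ t * a ∈ Subgroup.centralizer ({t} : Set G) ∧ t * a ≠ a := by
      intro a ha ha2 hat
      have hat' : a * t = t * a := (hmem a).1 ha
      have ha1 := ne_one_of_involution ha2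
      refine ⟨orderOf_eq_two_iff_mul.2 ⟨fun e => hat ?_, ?_⟩, fun e => ha1 (mul_eq_left.1 e), ?_,
        fun e => ne_one_of_involution ht (mul_eq_right.1 e)⟩
      · rw [eq_comm, ← inv_eq_self_of_involution ht]
        exact inv_eq_of_mul_eq_one_right e
      · rw [show t * a * (t * a) = t * (a * t) * a by group, hat',
          show t * (t * a) * a = t * t * (a * a) by group, htt,
          CfsgLib.Involutions.mul_self_eq_one ha2, one_mul]
      · rw [hmem, mul_assoc, hat']
    refine ⟨?_, hall, fun a ha ha2 hat => ?_⟩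
    · -- the odd core is trivial
      have hfix : ∀ w : G, orderOf w = 2 → ∀ x ∈ Cfsg.oddCore G, w * x = x * w → x = 1 := by
        intro w hw x hx hwx
        obtain ⟨k, rfl⟩ := isConj_iff.1 (hall w hw)
        set N : Subgroup (Subgroup.centralizer ({t} : Set G)) :=
          (Cfsg.oddCore G).subgroupOf (Subgroup.centralizer ({t} : Set G))
        have hNodd : Odd (Nat.card N) := by
          refine hOodd.of_dvd_nat ?_
          rw [← Subgroup.card_map_of_injective (Subgroup.centralizer ({t} : Set G)).subtype_injective]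
          exact Subgroup.card_dvd_of_le (Subgroup.map_comap_le _ _)
        have hN := eq_bot_of_odd_normal hcov (hOn.subgroupOf _) hNodd
        have hx' : k⁻¹ * x * k ∈ Cfsg.oddCore G := by simpa using hOn.conj_mem x hx k⁻¹
        have hc : k⁻¹ * x * k ∈ Subgroup.centralizer ({t} : Set G) := by
          rw [hmem]
          calc k⁻¹ * x * k * t = k⁻¹ * (x * (k * t * k⁻¹)) * k := by group
            _ = k⁻¹ * (k * t * k⁻¹ * x) * k := by rw [hwx]
            _ = t * (k⁻¹ * x * k) := by group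
        have h1 : (⟨_, hc⟩ : Subgroup.centralizer ({t} : Set G)) ∈ N := hx'
        rw [show N = ⊥ from hN, Subgroup.mem_bot] at h1
        have h2 : k⁻¹ * x * k = 1 := congrArg Subtype.val h1
        calc x = k * (k⁻¹ * x * k) * k⁻¹ := by group
          _ = 1 := by rw [h2]; group
      have hh := hswap _ hu₀ hu₀2 hg₀'
      exact eq_bot_of_four_group hOn htt (CfsgLib.Involutions.mul_self_eq_one hu₀2) hg₀.eq
        (fun x hx e => hfix t ht x hx e.symm) (fun x hx e => hfix _ hu₀2 x hx e.symm)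
        (fun x hx e => hfix _ hh.1 x hx e.symm)
    · obtain ⟨hta2, htat, htaC, hne⟩ := hswap a ha ha2 hat
      obtain ⟨c, hcC, hca⟩ := hone a ha _ htaC ha2 hta2 hat htat
      have hct : c * t * c⁻¹ = t := mul_inv_eq_iff_eq_mul.2 ((hmem c).1 hcC)
      have hcta : c * (t * a) * c⁻¹ = a := by
        rw [show c * (t * a) * c⁻¹ = (c * t * c⁻¹) * (c * a * c⁻¹) by group, hct, hca, ← mul_assoc, htt, one_mul]
      obtain ⟨k, hk⟩ := isConj_iff.1 (hall a ha2)
      have hat' : a * t = t * a := (hmem a).1 ha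
      have hin : ∀ y : G, orderOf y = 2 → y * a = a * y → y ≠ a →
          orderOf (k⁻¹ * y * k) = 2 ∧ k⁻¹ * y * k ∈ Subgroup.centralizer ({t} : Set G) ∧ k⁻¹ * y * k ≠ t := by
        intro y hy hya hyne
        refine ⟨?_, (hmem _).2 ?_, fun e => hyne ?_⟩
        · have := orderOf_conj_eq k⁻¹ y
          rw [inv_inv] at this
          exact this.trans hy
        · calc k⁻¹ * y * k * t = k⁻¹ * (y * (k * t * k⁻¹)) * k := by group
            _ = k⁻¹ * (k * t * k⁻¹ * y) * k := by rw [hk, hya]
            _ = t * (k⁻¹ * y * k) := by group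
        · rw [← hk, ← e]; group
      obtain ⟨ho1, hm1, hn1⟩ := hin t ht hat'.symm (fun e => hat e.symm)
      obtain ⟨ho2, hm2, hn2⟩ := hin (t * a) hta2
        (by rw [mul_assoc t a a, ← mul_assoc a t a, hat', mul_assoc]) hne
      obtain ⟨d, hdC, hd⟩ := hone _ hm1 _ hm2 ho1 ho2 hn1 hn2
      set e' := k * d * k⁻¹
      have het : e' * t * e'⁻¹ = t * a := by
        calc e' * t * e'⁻¹ = k * (d * (k⁻¹ * t * k) * d⁻¹) * k⁻¹ := by simp only [e']; group
          _ = t * a := by rw [hd]; group
      have hdt : d * t * d⁻¹ = t := mul_inv_eq_iff_eq_mul.2 ((hmem d).1 hdC)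
      have hea : e' * a * e'⁻¹ = a := by
        conv_lhs => arg 1; arg 2; rw [← hk]
        calc e' * (k * t * k⁻¹) * e'⁻¹ = k * (d * t * d⁻¹) * k⁻¹ := by simp only [e']; group
          _ = a := by rw [hdt, hk]
      refine ⟨c * e', ?_, ?_⟩
      · calc c * e' * t * (c * e')⁻¹ = c * (e' * t * e'⁻¹) * c⁻¹ := by group
          _ = a := by rw [het, hcta]
      · calc c * e' * a * (c * e')⁻¹ = c * (e' * a * e'⁻¹) * c⁻¹ := by group
          _ = t * a := by rw [hea, hca]

end CfsgLib.McLUnique
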