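import Cfsg.Agent.Lib.McLUnique.Global
import Cfsg.Agent.Lib.McLUnique.Fusion
import Cfsg.Agent.Lib.McLUnique.CoverInvol
import Cfsg.Agent.Lib.McLUnique.Cover

/-!
McL from an involution centraliser: the pieces put together.

The model, the relations and the local step that produces an assignment of the letters are hypotheses.
-/

set_option autoImplicit false
set_option linter.unusedSectionVars false

namespace CfsgLib.McLUnique

open Subgroup

universe u v

variable {G : Type u} [Group G]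

/-- The central element of order 2 of a centraliser with centre of order 2. -/
theorem eq_of_mem_center {t : G} (ht : orderOf t = 2)
    (h2 : Nat.card (center (centralizer ({t} : Set G))) = 2)
    {x : centralizer ({t} : Set G)} (hx : x ∈ center (centralizer ({t} : Set G))) (hx1 : x ≠ 1) :
    (x : G) = t := by
  classical
  have ht1 : t ≠ 1 := fun e => by rw [e, orderOf_one] at ht; omega
  set τ : centralizer ({t} : Set G) := ⟨t, mem_centralizer_singleton_iff.2 rfl⟩
  have hτ : τ ∈ center (centralizer ({t} : Set G)) := mem_center_iff.2 fun y =>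
    Subtype.ext (mem_centralizer_singleton_iff.1 y.2)
  have hτ1 : τ ≠ 1 := fun e => ht1 (congrArg Subtype.val e)
  obtain ⟨y, hy, huniq⟩ := Nat.card_eq_two_iff' (1 : center (centralizer ({t} : Set G))) |>.1 h2
  have e1 := huniq ⟨x, hx⟩ fun e => hx1 (congrArg Subtype.val e)
  have e2 := huniq ⟨τ, hτ⟩ fun e => hτ1 (congrArg Subtype.val e)
  exact congrArg Subtype.val (congrArg Subtype.val (e1.trans e2.symm))

/-- The whole argument, given the model and the local step. -/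
theorem centralizer_sup_or_nonempty_mulEquiv [Finite G] {t : G} (ht : orderOf t = 2)
    (hcov : Cfsg.IsNonsplitDoubleCover (centralizer ({t} : Set G)) (alternatingGroup (Fin 8)))
    {M : Type v} [Group M] [Finite M] [IsSimpleGroup M] {rels : List (List ℕ)}
    (hb : IndexBound.{max u v} rels) {f₂ : ℕ → M} (hf₂ : Sat rels f₂)
    (hcard : Nat.card M = 898128000) (htop : allGroup f₂ = ⊤)
    (honeM : ∀ a b : M, orderOf a = 2 → orderOf b = 2 → IsConj a b)
    {t₀ : M} (ht₀ : orderOf t₀ = 2) (hC₀ : centralizer ({t₀} : Set M) = cGroup f₂)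
    (hC₂ : Nat.card (cGroup f₂) = 40320)
    (hcov₀ : Cfsg.IsNonsplitDoubleCover (centralizer ({t₀} : Set M)) (alternatingGroup (Fin 8)))
    {a₀ : M} (ha₀ : orderOf a₀ = 2) (ha₀C : a₀ ∈ centralizer ({t₀} : Set M)) (ha₀t : a₀ ≠ t₀)
    (hlocal : ∀ (φ : cGroup f₂ →* G), Function.Injective φ → φ.range = centralizer ({t} : Set G) →
      φ ⟨t₀, hC₀ ▸ mem_centralizer_singleton_iff.2 rfl⟩ = t →
      ∀ g : G, g * t * g⁻¹ = φ ⟨a₀, hC₀ ▸ ha₀C⟩ →
        g * φ ⟨a₀, hC₀ ▸ ha₀C⟩ * g⁻¹ = t * φ ⟨a₀, hC₀ ▸ ha₀C⟩ →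
      ∃ f : ℕ → G, Sat rels f ∧
        (∀ (i : ℕ) (hi : i ∈ cLetters), f i = φ ⟨f₂ i, subset_closure ⟨i, hi, rfl⟩⟩) ∧
        f 12 ∉ cGroup f) :
    centralizer ({t} : Set G) ⊔ Cfsg.oddCore G = ⊤ ∨ Nonempty (G ≃* M) := by
  classical
  have hone : ∀ u ∈ centralizer ({t} : Set G), ∀ v ∈ centralizer ({t} : Set G),
      orderOf u = 2 → orderOf v = 2 → u ≠ t → v ≠ t →
        ∃ c ∈ centralizer ({t} : Set G), c * u * c⁻¹ = v := fun u hu v hv hu2 hv2 hut hvt => by
    obtain ⟨c, hc⟩ := isConj_iff.1 (isConj_of_centralizer ht hcov (u := ⟨u, hu⟩) (v := ⟨v, hv⟩)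
      (by rwa [Subgroup.orderOf_mk]) hut (by rwa [Subgroup.orderOf_mk]) hvt)
    exact ⟨c, c.2, congrArg Subtype.val hc⟩
  rcases fusion_cases ht hcov hone with h | ⟨-, -, hfus⟩
  · exact Or.inl h
  right
  obtain ⟨e₀⟩ := nonempty_mulEquiv_of_doubleCover hcov₀ hcov
  let φ : cGroup f₂ →* G := (centralizer ({t} : Set G)).subtype.comp
    ((MulEquiv.subgroupCongr hC₀).symm.trans e₀).toMonoidHom
  have hφinj : Function.Injective φ :=
    (Subgroup.subtype_injective _).comp (MulEquiv.injective _)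
  have hφrange : φ.range = centralizer ({t} : Set G) := by
    refine le_antisymm (fun x hx => ?_) fun x hx => ?_
    · obtain ⟨y, rfl⟩ := hx
      exact (((MulEquiv.subgroupCongr hC₀).symm.trans e₀) y).2
    · obtain ⟨y, hy⟩ := ((MulEquiv.subgroupCongr hC₀).symm.trans e₀).surjective ⟨x, hx⟩
      exact ⟨y, congrArg Subtype.val hy⟩
  have hφt : φ ⟨t₀, hC₀ ▸ mem_centralizer_singleton_iff.2 rfl⟩ = t := by
    set τ : centralizer ({t₀} : Set M) := ⟨t₀, mem_centralizer_singleton_iff.2 rfl⟩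
    have hτ : τ ∈ center (centralizer ({t₀} : Set M)) := mem_center_iff.2 fun y =>
      Subtype.ext (mem_centralizer_singleton_iff.1 y.2)
    refine eq_of_mem_center ht hcov.1 (x := e₀ τ) (mem_center_iff.2 fun y => ?_) fun h => ?_
    · obtain ⟨y, rfl⟩ := e₀.surjective y
      rw [← map_mul, ← map_mul, mem_center_iff.1 hτ y]
    · have := e₀.injective (h.trans e₀.map_one.symm)
      have e : t₀ = 1 := congrArg Subtype.val this
      rw [e, orderOf_one] at ht₀
      omega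
  have haC : φ ⟨a₀, hC₀ ▸ ha₀C⟩ ∈ centralizer ({t} : Set G) := hφrange ▸ ⟨_, rfl⟩
  have ha2 : orderOf (φ ⟨a₀, hC₀ ▸ ha₀C⟩) = 2 := by
    rw [orderOf_injective φ hφinj, Subgroup.orderOf_mk, ha₀]
  have hat : φ ⟨a₀, hC₀ ▸ ha₀C⟩ ≠ t := fun h =>
    ha₀t (congrArg Subtype.val (hφinj (h.trans hφt.symm)))
  obtain ⟨g, hg1, hg2⟩ := hfus _ haC ha2 hat
  obtain ⟨f, hf, hfφ, hf12⟩ := hlocal φ hφinj hφrange hφt g hg1 hg2
  refine nonempty_mulEquiv_of_sat hb hf hf₂ hcard htop honeM hC₂ φ (fun i hi => (hfφ i hi).symm)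
    ht ?_ ha2 haC hat hf12
  rw [← hφrange]
  refine le_antisymm ?_ ((closure_le _).2 ?_)
  · rintro _ ⟨y, rfl⟩
    have key : ∀ x, ∀ hx : x ∈ cGroup f₂, φ ⟨x, hx⟩ ∈ cGroup f := by
      intro x hx
      induction hx using Subgroup.closure_induction with
      | mem x hx =>
        obtain ⟨i, hi, rfl⟩ := hx
        exact subset_closure ⟨i, hi, hfφ i hi⟩
      | one => exact (map_one φ).symm ▸ one_mem _
      | mul x y hx hy ihx ihy =>
        rw [show (⟨x * y, mul_mem hx hy⟩ : cGroup f₂) = ⟨x, hx⟩ * ⟨y, hy⟩ from rfl, map_mul]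
        exact mul_mem ihx ihy
      | inv x hx ih =>
        rw [show (⟨x⁻¹, inv_mem hx⟩ : cGroup f₂) = ⟨x, hx⟩⁻¹ from rfl, map_inv]
        exact inv_mem ih
    exact key y y.2
  · rintro _ ⟨i, hi, rfl⟩
    exact ⟨⟨f₂ i, subset_closure ⟨i, hi, rfl⟩⟩, (hfφ i hi).symm⟩

end CfsgLib.McLUnique
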