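import Cfsg.Agent.Lib.McLUnique.Glue
import Cfsg.Agent.Lib.McLUnique.Cert.Bad.Loop

/-!
The bad case collapses: `g` lies in the centraliser.
-/

set_option autoImplicit false
set_option maxRecDepth 100000

namespace CfsgLib.McLUnique

open CfsgLib.Presented

variable {G : Type*} [Group G]

namespace CertBad

theorem collapse {f : ℕ → G} (hf : Sat Data.badRels f) : f 12 ∈ cGroup f := by
  have hrel : Cert.Bad.relWords = Data.badRels := by decide +kernel
  have hlt : (Cert.Bad.relWords.all fun w => w.all fun l => Nat.blt l 20) = true := by decide +kernel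
  have hinvl : ∀ i < 20, Cert.Bad.alphabet.invl i = invl i := by decide +kernel
  have hc20 : ∀ i ∈ cLetters, i < 20 := by decide
  have hI : Cert.Bad.enum.Interp (ext f) ((1 : G) : G ⧸ cGroup f) := by
    refine ⟨rfl, fun i hi => ?_, fun w hw => ?_, fun w hw => ?_⟩
    · change i < 20 at hi
      show ext f (Cert.Bad.alphabet.invl i) * ext f i = 1
      rw [hinvl i hi]
      exact ext_inv hf.inv hi
    · change w ∈ Cert.Bad.relWords at hw
      rw [evW_ext f (List.all_eq_true.1 hlt w hw)]
      exact hf.rel w (hrel ▸ hw)
    · have hmem : ∀ i ∈ cLetters, f i ∈ cGroup f ∧ f (invl i) ∈ cGroup f := fun i hi => by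
        have h1 : f i ∈ cGroup f := Subgroup.subset_closure ⟨i, hi, rfl⟩
        have h20 : i < 20 := hc20 i hi
        exact ⟨h1, by rw [eq_inv_of_mul_eq_one_left (hf.inv i h20)]; exact inv_mem h1⟩
      have key : evW (ext f) w ∈ cGroup f := by
        have hlist : Cert.Bad.subWords = cLetters.flatMap fun i => [[i], [invl i]] := by decide +kernel
        change w ∈ Cert.Bad.subWords at hw
        rw [hlist, List.mem_flatMap] at hw
        obtain ⟨i, hi, hw⟩ := hw
        have h20 : i < 20 := hc20 i hi
        simp only [List.mem_cons, List.not_mem_nil, or_false] at hw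
        rcases hw with rfl | rfl
        · simpa [ext, h20] using (hmem i hi).1
        · simpa [ext, invl_lt h20] using (hmem i hi).2
      rw [MulAction.Quotient.smul_coe, smul_eq_mul, mul_one, QuotientGroup.eq, mul_one]
      exact inv_mem key
  have h := Cert.Bad.loops hI [12] (by decide +kernel)
  rw [MulAction.Quotient.smul_coe, smul_eq_mul, mul_one, QuotientGroup.eq, mul_one] at h
  simpa [ext] using (inv_mem_iff (H := cGroup f)).1 h

end CertBad

end CfsgLib.McLUnique
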