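import Cfsg.Agent.Lib.McLUnique.Glue
import Cfsg.Agent.Lib.McLUnique.Cert.Main.Cert

/-!
The relations bound the index of the centraliser letters by 22275.
-/

set_option autoImplicit false
set_option maxRecDepth 100000

namespace CfsgLib.McLUnique

open CfsgLib.Presented

namespace CertMain

theorem indexBound.{v} : IndexBound.{v} Data.rels := by
  intro X _ f hf
  have hrel : Cert.Main.relWords = Data.rels := by decide +kernel
  have hlt : (Cert.Main.relWords.all fun w => w.all fun l => Nat.blt l 20) = true := by decide +kernel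
  have hinvl : ∀ i < 20, Cert.Main.rep.A.invl i = invl i := by decide +kernel
  have hsub : ∀ w ∈ Cert.Main.subWords, ∃ i ∈ cLetters, w = [i] ∨ w = [invl i] := by decide +kernel
  have hle : allGroup f ≤ Subgroup.closure (ext f '' Set.Iio Cert.Main.cert.R.A.eps) := by
    refine Subgroup.closure_mono ?_
    rintro _ ⟨i, hi, rfl⟩
    exact ⟨i, hi, by rw [ext, if_pos hi]⟩
  have h20 : ∀ i ∈ cLetters, i < 20 := by decide
  refine VCert.relIndex_le (C := Cert.Main.cert) Cert.Main.cert_ok rfl (fun i hi => ?_) (fun w hw => ?_)
    (fun w hw => ?_) hle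
  · change i < 20 at hi
    show ext f (Cert.Main.rep.A.invl i) * ext f i = 1
    rw [hinvl i hi]
    exact ext_inv hf.inv hi
  · change w ∈ Cert.Main.relWords at hw
    rw [evW_ext f (List.all_eq_true.1 hlt w hw)]
    exact hf.rel w (hrel ▸ hw)
  · obtain ⟨i, hi, hw⟩ := hsub w hw
    have hmem : f i ∈ cGroup f := Subgroup.subset_closure ⟨i, hi, rfl⟩
    rcases hw with rfl | rfl
    · simpa [ext, h20 i hi] using hmem
    · have : f (invl i) ∈ cGroup f := by
        rw [eq_inv_of_mul_eq_one_left (hf.inv i (h20 i hi))]
        exact inv_mem hmem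
      simpa [ext, invl_lt (h20 i hi)] using this

end CertMain

end CfsgLib.McLUnique
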