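import Cfsg.Agent.Lib.McLUnique.Glue
import Cfsg.Agent.Lib.McLUnique.Cert.Side1.Loop
import Cfsg.Agent.Lib.McLUnique.Cert.Side2.Loop
import Mathlib.Tactic.IntervalCases

/-!
The extra relations of each side lie in a complement.
-/

set_option autoImplicit false
set_option maxRecDepth 100000

namespace CfsgLib.McLUnique

open CfsgLib.Presented

variable {G : Type*} [Group G]

namespace CertSide

/-- The letters of side 1. -/
def base1 : List ℕ := [4, 5, 6, 7, 12, 13, 14, 15, 16, 17, 18, 19]

theorem ex1_mem {f : ℕ → G} (hinv : ∀ i, i < 20 → f (invl i) * f i = 1)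
    (hrel : ∀ w ∈ Data.sideRels1 ++ Data.gRels ++ Data.pows1.map Data.powWord ++ [Data.powWord Data.pin1],
      evW f w = 1)
    (H : Subgroup G) (hL : ∀ w ∈ Data.lWords1, evW f w ∈ H) : ∀ r ∈ Data.ex1, evW f r ∈ H := by
  have hlist : Cert.Side1.relWords =
      [12 :: (((Data.lWords1.getD 0 []).reverse.map invl).map (toSide base1)),
        14 :: (((Data.lWords1.getD 1 []).reverse.map invl).map (toSide base1))] ++
      (Data.sideRels1 ++ Data.gRels ++ Data.pows1.map Data.powWord ++ [Data.powWord Data.pin1]).map
        (List.map (toSide base1)) := by decide +kernel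
  have hloop : Cert.Side1.loopWords = Data.ex1.map (List.map (toSide base1)) := by decide +kernel
  have hc : ((Data.sideRels1 ++ Data.gRels ++ Data.pows1.map Data.powWord ++ [Data.powWord Data.pin1] ++
      Data.ex1 ++ Data.lWords1 ++ Data.lWords1.map fun w => w.reverse.map invl).all
        fun w => w.all fun l => base1.contains l) = true := by decide +kernel
  have hl : Data.lWords1.length = 2 := by decide +kernel
  have hb20 : ∀ l ∈ base1, l < 20 := by decide +kernel
  have hbinv : ∀ i < 12, base1.getD (Cert.Side1.alphabet.invl i) 0 = invl (base1.getD i 0) ∧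
      Cert.Side1.alphabet.invl i < 12 ∧ base1.getD i 0 < 20 := by decide +kernel
  have hhi : Cert.Side1.alphabet.invl 12 = 13 ∧ Cert.Side1.alphabet.invl 13 = 12 ∧
      Cert.Side1.alphabet.invl 14 = 15 ∧ Cert.Side1.alphabet.invl 15 = 14 := by decide +kernel
  have hinvw : ∀ w : List ℕ, (∀ l ∈ w, l < 20) → evW f (w.reverse.map invl) = (evW f w)⁻¹ := by
    intro w hw
    induction w with
    | nil => simp
    | cons a w ih =>
      rw [List.reverse_cons, List.map_append, evW_append, ih fun x hx => hw x (List.mem_cons_of_mem a hx),
        List.map_singleton, evW_cons, evW_nil, mul_one, evW_cons, mul_inv_rev,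
        eq_inv_of_mul_eq_one_left (hinv a (hw a List.mem_cons_self))]
  set x := evW f (Data.lWords1.getD 0 []) with hx
  set y := evW f (Data.lWords1.getD 1 []) with hy
  have hword : ∀ k < 2, Data.lWords1.getD k [] ∈ Data.lWords1 := fun k hk => by
    rw [List.getD_eq_getElem _ _ (by omega)]
    exact List.getElem_mem _
  have hcomb : ∀ k < 2, evW (sideEv f base1 x y)
      (((Data.lWords1.getD k []).reverse.map invl).map (toSide base1)) =
        (evW f (Data.lWords1.getD k []))⁻¹ := by
    intro k hk
    have hm := hword k hk
    rw [evW_toSide f base1 rfl x y (List.all_eq_true.1 hc _ (by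
      simp only [List.mem_append, List.mem_map]
      exact Or.inr ⟨_, hm, rfl⟩))]
    refine hinvw _ fun l hl => hb20 l ?_
    have := List.all_eq_true.1 hc _ (show Data.lWords1.getD k [] ∈ _ by
      simp only [List.mem_append]
      exact Or.inl (Or.inr hm))
    simpa using List.all_eq_true.1 this l hl
  have hI : Cert.Side1.enum.Interp (sideEv f base1 x y) ((1 : G) : G ⧸ H) := by
    refine ⟨rfl, fun i hi => ?_, fun w hw => ?_, fun w hw => ?_⟩
    · change i < 16 at hi
      show sideEv f base1 x y (Cert.Side1.alphabet.invl i) * sideEv f base1 x y i = 1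
      rcases Nat.lt_or_ge i 12 with h | h
      · obtain ⟨e1, e2, e3⟩ := hbinv i h
        simp only [sideEv, if_pos h, if_pos e2, e1]
        exact hinv _ e3
      · obtain ⟨e1, e2, e3, e4⟩ := hhi
        interval_cases i <;> simp [e1, e2, e3, e4, sideEv]
    · change w ∈ Cert.Side1.relWords at hw
      rw [hlist, List.mem_append, List.mem_map] at hw
      rcases hw with hw | ⟨v, hv, rfl⟩
      · simp only [List.mem_cons, List.not_mem_nil, or_false] at hw
        rcases hw with rfl | rfl
        · rw [evW_cons, hcomb 0 (by omega)]
          simp [sideEv, hx]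
        · rw [evW_cons, hcomb 1 (by omega)]
          simp [sideEv, hy]
      · rw [evW_toSide f base1 rfl x y (List.all_eq_true.1 hc v (by
          simp only [List.mem_append] at hv ⊢
          exact Or.inl (Or.inl (Or.inl hv))))]
        exact hrel v hv
    · have hs : Cert.Side1.subWords = [[12], [13], [14], [15]] := by decide +kernel
      change w ∈ Cert.Side1.subWords at hw
      rw [hs] at hw
      have hxH : x ∈ H := hL _ (hword 0 (by omega))
      have hyH : y ∈ H := hL _ (hword 1 (by omega))
      have key : evW (sideEv f base1 x y) w ∈ H := by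
        simp only [List.mem_cons, List.not_mem_nil, or_false] at hw
        rcases hw with rfl | rfl | rfl | rfl <;> simp [sideEv, hxH, hyH]
      rw [MulAction.Quotient.smul_coe, smul_eq_mul, mul_one, QuotientGroup.eq, mul_one]
      exact inv_mem key
  intro r hr
  have h := Cert.Side1.loops hI (r.map (toSide base1)) (by rw [hloop]; exact List.mem_map_of_mem hr)
  rw [MulAction.Quotient.smul_coe, smul_eq_mul, mul_one, QuotientGroup.eq, mul_one, inv_mem_iff,
    evW_toSide f base1 rfl x y (List.all_eq_true.1 hc r (by
      simp only [List.mem_append]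
      exact Or.inl (Or.inl (Or.inr hr))))] at h
  exact h

/-- The letters of side 2. -/
def base2 : List ℕ := [8, 9, 10, 11, 12, 13, 14, 15, 16, 17, 18, 19]

theorem ex2_mem {f : ℕ → G} (hinv : ∀ i, i < 20 → f (invl i) * f i = 1)
    (hrel : ∀ w ∈ Data.sideRels2 ++ Data.gRels ++ Data.pows2.map Data.powWord ++ [Data.powWord Data.pin2],
      evW f w = 1)
    (H : Subgroup G) (hL : ∀ w ∈ Data.lWords2, evW f w ∈ H) : ∀ r ∈ Data.ex2, evW f r ∈ H := by
  have hlist : Cert.Side2.relWords =
      [12 :: (((Data.lWords2.getD 0 []).reverse.map invl).map (toSide base2)),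
        14 :: (((Data.lWords2.getD 1 []).reverse.map invl).map (toSide base2))] ++
      (Data.sideRels2 ++ Data.gRels ++ Data.pows2.map Data.powWord ++ [Data.powWord Data.pin2]).map
        (List.map (toSide base2)) := by decide +kernel
  have hloop : Cert.Side2.loopWords = Data.ex2.map (List.map (toSide base2)) := by decide +kernel
  have hc : ((Data.sideRels2 ++ Data.gRels ++ Data.pows2.map Data.powWord ++ [Data.powWord Data.pin2] ++
      Data.ex2 ++ Data.lWords2 ++ Data.lWords2.map fun w => w.reverse.map invl).all
        fun w => w.all fun l => base2.contains l) = true := by decide +kernel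
  have hl : Data.lWords2.length = 2 := by decide +kernel
  have hb20 : ∀ l ∈ base2, l < 20 := by decide +kernel
  have hbinv : ∀ i < 12, base2.getD (Cert.Side2.alphabet.invl i) 0 = invl (base2.getD i 0) ∧
      Cert.Side2.alphabet.invl i < 12 ∧ base2.getD i 0 < 20 := by decide +kernel
  have hhi : Cert.Side2.alphabet.invl 12 = 13 ∧ Cert.Side2.alphabet.invl 13 = 12 ∧
      Cert.Side2.alphabet.invl 14 = 15 ∧ Cert.Side2.alphabet.invl 15 = 14 := by decide +kernel
  have hinvw : ∀ w : List ℕ, (∀ l ∈ w, l < 20) → evW f (w.reverse.map invl) = (evW f w)⁻¹ := by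
    intro w hw
    induction w with
    | nil => simp
    | cons a w ih =>
      rw [List.reverse_cons, List.map_append, evW_append, ih fun x hx => hw x (List.mem_cons_of_mem a hx),
        List.map_singleton, evW_cons, evW_nil, mul_one, evW_cons, mul_inv_rev,
        eq_inv_of_mul_eq_one_left (hinv a (hw a List.mem_cons_self))]
  set x := evW f (Data.lWords2.getD 0 []) with hx
  set y := evW f (Data.lWords2.getD 1 []) with hy
  have hword : ∀ k < 2, Data.lWords2.getD k [] ∈ Data.lWords2 := fun k hk => by
    rw [List.getD_eq_getElem _ _ (by omega)]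
    exact List.getElem_mem _
  have hcomb : ∀ k < 2, evW (sideEv f base2 x y)
      (((Data.lWords2.getD k []).reverse.map invl).map (toSide base2)) =
        (evW f (Data.lWords2.getD k []))⁻¹ := by
    intro k hk
    have hm := hword k hk
    rw [evW_toSide f base2 rfl x y (List.all_eq_true.1 hc _ (by
      simp only [List.mem_append, List.mem_map]
      exact Or.inr ⟨_, hm, rfl⟩))]
    refine hinvw _ fun l hl => hb20 l ?_
    have := List.all_eq_true.1 hc _ (show Data.lWords2.getD k [] ∈ _ by
      simp only [List.mem_append]
      exact Or.inl (Or.inr hm))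
    simpa using List.all_eq_true.1 this l hl
  have hI : Cert.Side2.enum.Interp (sideEv f base2 x y) ((1 : G) : G ⧸ H) := by
    refine ⟨rfl, fun i hi => ?_, fun w hw => ?_, fun w hw => ?_⟩
    · change i < 16 at hi
      show sideEv f base2 x y (Cert.Side2.alphabet.invl i) * sideEv f base2 x y i = 1
      rcases Nat.lt_or_ge i 12 with h | h
      · obtain ⟨e1, e2, e3⟩ := hbinv i h
        simp only [sideEv, if_pos h, if_pos e2, e1]
        exact hinv _ e3
      · obtain ⟨e1, e2, e3, e4⟩ := hhi
        interval_cases i <;> simp [e1, e2, e3, e4, sideEv]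
    · change w ∈ Cert.Side2.relWords at hw
      rw [hlist, List.mem_append, List.mem_map] at hw
      rcases hw with hw | ⟨v, hv, rfl⟩
      · simp only [List.mem_cons, List.not_mem_nil, or_false] at hw
        rcases hw with rfl | rfl
        · rw [evW_cons, hcomb 0 (by omega)]
          simp [sideEv, hx]
        · rw [evW_cons, hcomb 1 (by omega)]
          simp [sideEv, hy]
      · rw [evW_toSide f base2 rfl x y (List.all_eq_true.1 hc v (by
          simp only [List.mem_append] at hv ⊢
          exact Or.inl (Or.inl (Or.inl hv))))]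
        exact hrel v hv
    · have hs : Cert.Side2.subWords = [[12], [13], [14], [15]] := by decide +kernel
      change w ∈ Cert.Side2.subWords at hw
      rw [hs] at hw
      have hxH : x ∈ H := hL _ (hword 0 (by omega))
      have hyH : y ∈ H := hL _ (hword 1 (by omega))
      have key : evW (sideEv f base2 x y) w ∈ H := by
        simp only [List.mem_cons, List.not_mem_nil, or_false] at hw
        rcases hw with rfl | rfl | rfl | rfl <;> simp [sideEv, hxH, hyH]
      rw [MulAction.Quotient.smul_coe, smul_eq_mul, mul_one, QuotientGroup.eq, mul_one]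
      exact inv_mem key
  intro r hr
  have h := Cert.Side2.loops hI (r.map (toSide base2)) (by rw [hloop]; exact List.mem_map_of_mem hr)
  rw [MulAction.Quotient.smul_coe, smul_eq_mul, mul_one, QuotientGroup.eq, mul_one, inv_mem_iff,
    evW_toSide f base2 rfl x y (List.all_eq_true.1 hc r (by
      simp only [List.mem_append]
      exact Or.inl (Or.inl (Or.inr hr))))] at h
  exact h

end CertSide

end CfsgLib.McLUnique
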