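import Cfsg.Agent.Lib.McLUnique.Interface
import Cfsg.Agent.Lib.BenderQ.Bridge
import Cfsg.Agent.Lib.BenderQ.Bender
import Cfsg.Agent.Lib.Small.Basic

/-!
McL from an involution centraliser: the global step.

The pair group of two assignments of the letters in `G × M` is small enough to be a graph, so `G` has a
subgroup isomorphic to the model; it contains the centraliser of the involution and is not solvable, so it
cannot be strongly embedded and is the whole group.
-/

set_option autoImplicit false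
set_option linter.unusedSectionVars false

namespace CfsgLib.McLUnique

open CfsgLib.Presented Subgroup

universe u v

variable {G : Type u} [Group G] {M : Type v} [Group M]

/-- The values of a word in pairs. -/
theorem evW_pair (f : ℕ → G) (f₂ : ℕ → M) :
    ∀ w : List ℕ, evW (fun i => (f i, f₂ i)) w = (evW f w, evW f₂ w)
  | [] => rfl
  | x :: w => by rw [evW_cons, evW_cons, evW_cons, evW_pair f f₂ w]; rfl

/-- Relations hold in pairs. -/
theorem Sat.pair {rels : List (List ℕ)} {f : ℕ → G} {f₂ : ℕ → M} (h : Sat rels f) (h₂ : Sat rels f₂) :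
    Sat rels fun i => (f i, f₂ i) :=
  ⟨fun i hi => Prod.ext (h.inv i hi) (h₂.inv i hi),
    fun w hw => by rw [evW_pair, h.rel w hw, h₂.rel w hw]; rfl⟩

theorem cGroup_le_allGroup (f : ℕ → G) : cGroup f ≤ allGroup f :=
  closure_mono fun _ ⟨i, hi, e⟩ => ⟨i, (by decide : ∀ j ∈ cLetters, j < 20) i hi, e⟩

variable [Finite G] [Finite M] [IsSimpleGroup M]

/-- A map of the model into `G` matching the letters, with image the group of the letters. -/
theorem exists_hom {rels : List (List ℕ)} (hb : IndexBound.{max u v} rels) {f : ℕ → G} {f₂ : ℕ → M}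
    (hf : Sat rels f) (hf₂ : Sat rels f₂) (hcard : Nat.card M = 898128000) (htop : allGroup f₂ = ⊤)
    (hC₂ : Nat.card (cGroup f₂) = 40320) (φ : cGroup f₂ →* G)
    (hφ : ∀ (i : ℕ) (hi : i ∈ cLetters), φ ⟨f₂ i, subset_closure ⟨i, hi, rfl⟩⟩ = f i) :
    ∃ ψ : M →* G, ψ.range = allGroup f ∧ ∀ i, i < 20 → ψ (f₂ i) = f i := by
  set h : ℕ → G × M := fun i => (f i, f₂ i)
  obtain ⟨-, hidx⟩ := hb (G × M) h (hf.pair hf₂)
  have hle : cGroup h ≤ (φ.prod (cGroup f₂).subtype).range := by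
    refine (closure_le _).2 ?_
    rintro _ ⟨i, hi, rfl⟩
    exact ⟨⟨f₂ i, subset_closure ⟨i, hi, rfl⟩⟩, Prod.ext (hφ i hi) rfl⟩
  have hcC : Nat.card (cGroup h) ≤ 40320 := by
    refine (Nat.le_of_dvd Nat.card_pos (Subgroup.card_dvd_of_le hle)).trans ?_
    rw [← hC₂]
    exact Nat.card_le_card_of_surjective _ (MonoidHom.rangeRestrict_surjective _)
  have hcL : Nat.card (allGroup h) ≤ Nat.card M := by
    rw [hcard, ← Subgroup.relIndex_bot_left (allGroup h),
      ← Subgroup.relIndex_mul_relIndex ⊥ (cGroup h) (allGroup h) bot_le (cGroup_le_allGroup h),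
      Subgroup.relIndex_bot_left]
    exact (Nat.mul_le_mul hcC hidx).trans (by norm_num)
  set s : allGroup h →* M := (MonoidHom.snd G M).comp (allGroup h).subtype
  have hs : Function.Surjective s := by
    rw [← MonoidHom.range_eq_top, eq_top_iff, ← htop]
    refine (closure_le _).2 ?_
    rintro _ ⟨i, hi, rfl⟩
    exact ⟨⟨h i, subset_closure ⟨i, hi, rfl⟩⟩, rfl⟩
  have bs := hs.bijective_of_nat_card_le hcL
  set ψ : M →* G :=
    ((MonoidHom.fst G M).comp (allGroup h).subtype).comp (MulEquiv.ofBijective s bs).symm.toMonoidHom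
  have hψ : ∀ i, i < 20 → ψ (f₂ i) = f i := fun i hi => by
    have e : (MulEquiv.ofBijective s bs).symm (f₂ i) = ⟨h i, subset_closure ⟨i, hi, rfl⟩⟩ := by
      rw [MulEquiv.symm_apply_eq]; rfl
    show ((MulEquiv.ofBijective s bs).symm (f₂ i) : G × M).1 = f i
    rw [e]
  refine ⟨ψ, ?_, hψ⟩
  rw [MonoidHom.range_eq_map, ← htop, allGroup, allGroup, MonoidHom.map_closure]
  congr 1
  ext x
  constructor
  · rintro ⟨_, ⟨i, hi, rfl⟩, rfl⟩
    exact ⟨i, hi, (hψ i hi).symm⟩
  · rintro ⟨i, hi, rfl⟩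
    exact ⟨f₂ i, ⟨i, hi, rfl⟩, hψ i hi⟩

/-- A proper subgroup containing the centraliser of one of its involutions, all of which are conjugate
in it, is strongly embedded. -/
theorem isStronglyEmbedded_of_oneClass {H : Subgroup G} (hH : H ≠ ⊤) {t : G} (ht : orderOf t = 2)
    (htH : t ∈ H) (hC : centralizer ({t} : Set G) ≤ H)
    (hone : ∀ s ∈ H, orderOf s = 2 → ∃ k ∈ H, k * t * k⁻¹ = s) : Cfsg.IsStronglyEmbedded H := by
  haveI := Fact.mk Nat.prime_two
  have hcent : ∀ s ∈ H, orderOf s = 2 → centralizer ({s} : Set G) ≤ H := by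
    intro s hs hs2 x hx
    obtain ⟨k, hk, rfl⟩ := hone s hs hs2
    have hc : k⁻¹ * x * k ∈ centralizer ({t} : Set G) := mem_centralizer_singleton_iff.2 <| by
      calc k⁻¹ * x * k * t = k⁻¹ * (x * (k * t * k⁻¹)) * k := by group
        _ = t * (k⁻¹ * x * k) := by rw [mem_centralizer_singleton_iff.1 hx]; group
    have := H.mul_mem (H.mul_mem hk (hC hc)) (H.inv_mem hk)
    rwa [show k * (k⁻¹ * x * k) * k⁻¹ = x by group] at this
  refine ⟨hH, even_iff_two_dvd.2 (ht ▸ Subgroup.orderOf_dvd_natCard H htH), fun g hg => ?_⟩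
  rw [← Nat.not_even_iff_odd, even_iff_two_dvd]
  intro h2
  obtain ⟨⟨s, hs⟩, hs'⟩ := exists_prime_orderOf_dvd_card'
    (G := ↥(H ⊓ H.map (MulAut.conj g).toMonoidHom)) 2 h2
  rw [Subgroup.orderOf_mk] at hs'
  obtain ⟨hsH, r, hr, hrs⟩ := hs
  have hrs' : g * r * g⁻¹ = s := hrs
  have hr2 : orderOf r = 2 := by
    rw [← hs', ← hrs']
    exact SemiconjBy.orderOf_eq g (show SemiconjBy g r (g * r * g⁻¹) by simp [SemiconjBy])
  obtain ⟨k, hk, hks⟩ := hone s hsH hs'
  obtain ⟨l, hl, hlr⟩ := hone r hr hr2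
  have hx : k⁻¹ * g * l ∈ centralizer ({t} : Set G) := mem_centralizer_singleton_iff.2 <| by
    calc k⁻¹ * g * l * t = k⁻¹ * (g * (l * t * l⁻¹) * g⁻¹) * g * l := by group
      _ = t * (k⁻¹ * g * l) := by rw [hlr, hrs', ← hks]; group
  have := H.mul_mem (H.mul_mem hk (hC hx)) (H.inv_mem hl)
  rw [show k * (k⁻¹ * g * l) * l⁻¹ = g by group] at this
  exact hg this

/-- The global step: `G` is the model. -/
theorem nonempty_mulEquiv_of_sat {rels : List (List ℕ)} (hb : IndexBound.{max u v} rels)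
    {f : ℕ → G} {f₂ : ℕ → M} (hf : Sat rels f) (hf₂ : Sat rels f₂)
    (hcard : Nat.card M = 898128000) (htop : allGroup f₂ = ⊤)
    (honeM : ∀ a b : M, orderOf a = 2 → orderOf b = 2 → IsConj a b)
    (hC₂ : Nat.card (cGroup f₂) = 40320) (φ : cGroup f₂ →* G)
    (hφ : ∀ (i : ℕ) (hi : i ∈ cLetters), φ ⟨f₂ i, subset_closure ⟨i, hi, rfl⟩⟩ = f i)
    {t a : G} (ht : orderOf t = 2) (hC : centralizer ({t} : Set G) = cGroup f)
    (ha : orderOf a = 2) (haC : a ∈ centralizer ({t} : Set G)) (hat : a ≠ t)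
    (hg : f 12 ∉ cGroup f) : Nonempty (G ≃* M) := by
  obtain ⟨ψ, hrange, hψ⟩ := exists_hom hb hf hf₂ hcard htop hC₂ φ hφ
  have hinj : Function.Injective ψ := by
    rcases ψ.normal_ker.eq_bot_or_eq_top with h | h
    · exact (MonoidHom.ker_eq_bot_iff ψ).1 h
    · refine absurd ?_ hg
      rw [← hψ 12 (by norm_num), MonoidHom.mem_ker.1 (show f₂ 12 ∈ ψ.ker by rw [h]; trivial)]
      exact one_mem _
  have hnc : ¬ IsMulCommutative M := Small.nc_of_not_prime (by rw [hcard]; norm_num)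
  by_cases htopG : allGroup f = ⊤
  · exact ⟨(MulEquiv.ofBijective ψ ⟨hinj, MonoidHom.range_eq_top.1 (hrange.trans htopG)⟩).symm⟩
  exfalso
  have hCle : centralizer ({t} : Set G) ≤ allGroup f := hC.le.trans (cGroup_le_allGroup f)
  have htH : t ∈ allGroup f := hCle (mem_centralizer_singleton_iff.2 rfl)
  have hse : Cfsg.IsStronglyEmbedded (allGroup f) := by
    refine isStronglyEmbedded_of_oneClass htopG ht htH hCle fun s hs hs2 => ?_
    obtain ⟨y, rfl⟩ : s ∈ ψ.range := hrange ▸ hs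
    obtain ⟨x, rfl⟩ : t ∈ ψ.range := hrange ▸ htH
    rw [orderOf_injective ψ hinj] at hs2 ht
    obtain ⟨k, hk⟩ := isConj_iff.1 (honeM x y ht hs2)
    exact ⟨ψ k, hrange ▸ ⟨k, rfl⟩, by rw [← hk, map_mul, map_mul, map_inv]⟩
  have hsol := BenderQ.isSolvable_of_stronglyEmbedded BenderQ.benderKernel hse
    ⟨t, a, ht, ha, fun e => hat e.symm, (mem_centralizer_singleton_iff.1 haC).symm⟩
  let e : M ≃* allGroup f := (MonoidHom.ofInjective hinj).trans (MulEquiv.subgroupCongr hrange)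
  have : Group.IsSolvable M :=
    Group.isSolvable_of_isSolvable_injective (f := e.toMonoidHom) e.injective
  exact hnc ⟨⟨fun x y => IsSimpleGroup.comm_iff_isSolvable.2 inferInstance x y⟩⟩

end CfsgLib.McLUnique
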