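import Cfsg.Agent.Lib.McLUnique.Data
import Cfsg.Agent.Lib.Presented.Coset

/-!
Between the twenty letters and the letters of the certificates.
-/

set_option autoImplicit false

namespace CfsgLib.McLUnique

open CfsgLib.Presented

variable {G : Type*} [Group G]

/-- The assignment continued by the identity. -/
def ext (f : ℕ → G) (i : ℕ) : G := if i < 20 then f i else 1

theorem evW_congr_mem {f h : ℕ → G} : ∀ {w : List ℕ}, (∀ l ∈ w, f l = h l) → evW f w = evW h w
  | [], _ => rfl
  | l :: w, hw => by
    rw [evW_cons, evW_cons, hw l List.mem_cons_self,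
      evW_congr_mem fun x hx => hw x (List.mem_cons_of_mem l hx)]

theorem evW_map (f : ℕ → G) (φ : ℕ → ℕ) : ∀ w : List ℕ, evW f (w.map φ) = evW (fun i => f (φ i)) w
  | [] => rfl
  | l :: w => by rw [List.map_cons, evW_cons, evW_cons, evW_map f φ w]

theorem evW_ext (f : ℕ → G) {w : List ℕ} (hw : (w.all fun l => Nat.blt l 20) = true) :
    evW (ext f) w = evW f w := by
  refine evW_congr_mem fun l hl => ?_
  have := List.all_eq_true.1 hw l hl
  rw [Nat.blt_eq] at this
  rw [ext, if_pos this]

theorem invl_lt {i : ℕ} (hi : i < 20) : invl i < 20 := by unfold invl; split <;> omega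

theorem ext_inv {f : ℕ → G} (hf : ∀ i, i < 20 → f (invl i) * f i = 1) {i : ℕ} (hi : i < 20) :
    ext f (invl i) * ext f i = 1 := by
  rw [ext, ext, if_pos hi, if_pos (invl_lt hi)]
  exact hf i hi

/-- The letters of a side: six pairs from `base` and two words with their inverses. -/
def sideEv (f : ℕ → G) (base : List ℕ) (x y : G) (i : ℕ) : G :=
  if i < 12 then f (base.getD i 0) else if i = 12 then x else if i = 13 then x⁻¹
  else if i = 14 then y else if i = 15 then y⁻¹ else 1

/-- The place of a letter on a side. -/
def toSide (base : List ℕ) (l : ℕ) : ℕ := base.idxOf l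

theorem evW_toSide (f : ℕ → G) (base : List ℕ) (hb : base.length = 12) (x y : G) {w : List ℕ}
    (hw : (w.all fun l => base.contains l) = true) :
    evW (sideEv f base x y) (w.map (toSide base)) = evW f w := by
  rw [evW_map]
  refine evW_congr_mem fun l hl => ?_
  have hm : l ∈ base := by simpa using List.all_eq_true.1 hw l hl
  have hlt : base.idxOf l < base.length := List.idxOf_lt_length_of_mem hm
  rw [sideEv, toSide, if_pos (by omega), List.getD_eq_getElem _ _ hlt, List.getElem_idxOf hlt]

end CfsgLib.McLUnique
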