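import Cfsg.Agent.Lib.Presented.Word
import Mathlib.GroupTheory.Index

/-!
McL from an involution centraliser: the alphabet and the meaning of relations.

Twenty letters, inverse `xor 1`: 0, 2 generate the centraliser, 4, 6 and 8, 10 the normalisers in it of the two
elementary abelian groups of order 16, 12 is the element `g` of order 3, 14, 16, 18 generate the centraliser of
the four-group.
-/

set_option autoImplicit false

namespace CfsgLib.McLUnique

open CfsgLib.Presented

variable {G : Type*} [Group G]

/-- The inverse letter. -/
def invl (i : ℕ) : ℕ := if i % 2 = 0 then i + 1 else i - 1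

/-- The letters of the centraliser: all but 12 and 13. -/
def cLetters : List ℕ := [0, 2, 4, 6, 8, 10, 14, 16, 18]

/-- An assignment of the letters satisfying the given relations. -/
structure Sat (rels : List (List ℕ)) (f : ℕ → G) : Prop where
  inv : ∀ i, i < 20 → f (invl i) * f i = 1
  rel : ∀ w ∈ rels, evW f w = 1

/-- The subgroup generated by the centraliser letters. -/
def cGroup (f : ℕ → G) : Subgroup G := Subgroup.closure {x | ∃ i ∈ cLetters, f i = x}

/-- The subgroup generated by all the letters. -/
def allGroup (f : ℕ → G) : Subgroup G := Subgroup.closure {x | ∃ i, i < 20 ∧ f i = x}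

/-- What the coset enumeration gives for the final relations. -/
def IndexBound.{v} (rels : List (List ℕ)) : Prop :=
  ∀ (X : Type v) [Group X] (f : ℕ → X), Sat rels f →
    (cGroup f).relIndex (allGroup f) ≠ 0 ∧ (cGroup f).relIndex (allGroup f) ≤ 22275

end CfsgLib.McLUnique
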