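import Cfsg.Agent.Lib.McLUnique.K0RotDefs

/-!
One part of the test of the rotations.
-/

set_option autoImplicit false
set_option maxRecDepth 100000
set_option Elab.async false

namespace CfsgLib.McLUnique.K0Rot

set_option maxHeartbeats 0 in
theorem check1 : (List.range' 32 32).all checkX = true := by decide +kernel

end CfsgLib.McLUnique.K0Rot
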