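import Cfsg.Agent.Lib.McLUnique.K0RotCheck0
import Cfsg.Agent.Lib.McLUnique.K0RotCheck1
import Cfsg.Agent.Lib.McLUnique.K0RotCheck2
import Cfsg.Agent.Lib.McLUnique.K0RotCheck3
import Cfsg.Agent.Lib.McLUnique.K0RotCheck4
import Cfsg.Agent.Lib.McLUnique.K0RotCheck5
import Mathlib.Tactic.IntervalCases
import Mathlib.Tactic.Group
import Mathlib.Tactic.NormNum

/-!
McL from an involution centraliser: the possible rotations of the centraliser of the four-group.

The group of the 192 words `Data.kWords` is described by right multiplication with the letters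
14, …, 19 on indices.  An automorphism of it cycling `t, a, t * a` whose cube is inner agrees on the
three generators with the model rotation followed by an inner automorphism.
-/

set_option autoImplicit false
set_option maxRecDepth 100000

namespace CfsgLib.McLUnique.K0Rot

open CfsgLib.Presented

universe u

theorem check_all : (List.range 192).all checkX = true := by
  rw [show List.range 192 = List.range' 0 32 ++ List.range' 32 32 ++ List.range' 64 32 ++
      List.range' 96 32 ++ List.range' 128 32 ++ List.range' 160 32 from by decide +kernel]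
  simp only [List.all_append, check0, check1, check2, check3, check4, check5, Bool.and_self]

theorem step_lt : ∀ i, i < 192 → ∀ l, l < 20 → step i l < 192 := by decide +kernel

theorem word_lt : ∀ j, j < 192 → ∀ l ∈ word j, 14 ≤ l ∧ l < 20 := by decide +kernel

variable {G : Type u} [Group G]

/-- What is needed of an assignment of the letters: the table holds. -/
structure Table (f : ℕ → G) : Prop where
  inv : ∀ i, 14 ≤ i → i < 20 → f (invl i) * f i = 1
  stepEq : ∀ i, i < 192 → ∀ l, 14 ≤ l → l < 20 →
    evW f (word i) * f l = evW f (word (step i l))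
  inj : ∀ i, i < 192 → ∀ j, j < 192 → evW f (word i) = evW f (word j) → i = j

namespace Table

variable {f : ℕ → G}

theorem act_spec (T : Table f) :
    ∀ (w : List ℕ), (∀ l ∈ w, 14 ≤ l ∧ l < 20) → ∀ i, i < 192 →
      act i w < 192 ∧ evW f (word (act i w)) = evW f (word i) * evW f w
  | [], _, i, hi => ⟨hi, by rw [evW_nil, mul_one]; rfl⟩
  | l :: w, h, i, hi => by
    obtain ⟨h14, h20⟩ := h l List.mem_cons_self
    obtain ⟨h1, h2⟩ := act_spec T w (fun x hx => h x (List.mem_cons_of_mem l hx)) (step i l)
      (step_lt i hi l h20)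
    refine ⟨h1, ?_⟩
    show evW f (word (act (step i l) w)) = _
    rw [h2, ← T.stepEq i hi l h14 h20, evW_cons, mul_assoc]

theorem act_zero (T : Table f) {w : List ℕ} (h : ∀ l ∈ w, 14 ≤ l ∧ l < 20) :
    act 0 w < 192 ∧ evW f (word (act 0 w)) = evW f w := by
  obtain ⟨h1, h2⟩ := T.act_spec w h 0 (by norm_num)
  exact ⟨h1, by rw [h2, show word 0 = [] from rfl, evW_nil, one_mul]⟩

theorem mulI_spec (T : Table f) {i j : ℕ} (hi : i < 192) (hj : j < 192) :
    mulI i j < 192 ∧ evW f (word (mulI i j)) = evW f (word i) * evW f (word j) :=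
  T.act_spec _ (word_lt j hj) i hi

theorem invl_range : ∀ l, 14 ≤ l → l < 20 → 14 ≤ invl l ∧ invl l < 20 := by
  intro l h1 h2
  interval_cases l <;> decide

theorem evW_invW (T : Table f) :
    ∀ w : List ℕ, (∀ l ∈ w, 14 ≤ l ∧ l < 20) → evW f (invW w) = (evW f w)⁻¹
  | [], _ => by simp [invW]
  | l :: w, h => by
    have ih := T.evW_invW w fun x hx => h x (List.mem_cons_of_mem l hx)
    obtain ⟨h14, h20⟩ := h l List.mem_cons_self
    rw [invW, List.map_cons, List.reverse_cons, evW_append, evW_cons, evW_nil, mul_one,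
      show evW f (w.map invl).reverse = _ from ih, evW_cons, mul_inv_rev,
      eq_inv_of_mul_eq_one_left (T.inv l h14 h20)]

theorem invI_spec (T : Table f) {i : ℕ} (hi : i < 192) :
    invI i < 192 ∧ evW f (word (invI i)) = (evW f (word i))⁻¹ := by
  have h : ∀ l ∈ invW (word i), 14 ≤ l ∧ l < 20 := by
    intro l hl
    rw [invW, List.mem_reverse, List.mem_map] at hl
    obtain ⟨m, hm, rfl⟩ := hl
    exact invl_range m (word_lt i hi m hm).1 (word_lt i hi m hm).2
  obtain ⟨h1, h2⟩ := T.act_zero h
  exact ⟨h1, h2.trans (T.evW_invW _ (word_lt i hi))⟩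

/-- **The rotation.**  If conjugation by `g` preserves the group of the table, moves `t` to `a`
and `a` to `t * a`, and `g ^ 3` lies in that group, then an element `k` of the group corrects `g`
to act on the generators as the model rotation does. -/
theorem exists_rotation (T : Table f) (g : G)
    (hgK : ∀ l, l ∈ [14, 16, 18] → ∃ j, j < 192 ∧ g * f l * g⁻¹ = evW f (word j))
    (ht : g * evW f Data.tWord * g⁻¹ = evW f Data.aWord)
    (ha : g * evW f Data.aWord * g⁻¹ = evW f Data.tWord * evW f Data.aWord)
    (h3 : ∃ m, m < 192 ∧ g ^ 3 = evW f (word m)) :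
    ∃ k, k < 192 ∧
      let g' := (evW f (word k))⁻¹ * g
      g' * f 14 * g'⁻¹ = evW f (word b14) ∧ g' * f 16 * g'⁻¹ = evW f (word b16) ∧
        g' * f 18 * g'⁻¹ = evW f (word b18) := by
  obtain ⟨x, hx, ex⟩ := hgK 14 (by simp)
  obtain ⟨y, hy, ey⟩ := hgK 16 (by simp)
  obtain ⟨z, hz, ez⟩ := hgK 18 (by simp)
  obtain ⟨m, hm, em⟩ := h3
  -- the values of words under conjugation
  have hlet : ∀ l, 14 ≤ l → l < 20 → letterImg x y z l < 192 ∧
      evW f (word (letterImg x y z l)) = g * f l * g⁻¹ := by
    intro l h14 h20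
    have e15 : f 15 = (f 14)⁻¹ := eq_inv_of_mul_eq_one_left (T.inv 14 le_rfl (by norm_num))
    have e17 : f 17 = (f 16)⁻¹ := eq_inv_of_mul_eq_one_left (T.inv 16 (by norm_num) (by norm_num))
    have e19 : f 19 = (f 18)⁻¹ := eq_inv_of_mul_eq_one_left (T.inv 18 (by norm_num) (by norm_num))
    interval_cases l
    · exact ⟨hx, ex.symm⟩
    · refine ⟨(T.invI_spec hx).1, ?_⟩
      show evW f (word (invI x)) = _
      rw [(T.invI_spec hx).2, ← ex, e15]; group
    · exact ⟨hy, ey.symm⟩
    · refine ⟨(T.invI_spec hy).1, ?_⟩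
      show evW f (word (invI y)) = _
      rw [(T.invI_spec hy).2, ← ey, e17]; group
    · exact ⟨hz, ez.symm⟩
    · refine ⟨(T.invI_spec hz).1, ?_⟩
      show evW f (word (invI z)) = _
      rw [(T.invI_spec hz).2, ← ez, e19]; group
  have himg : ∀ w : List ℕ, (∀ l ∈ w, 14 ≤ l ∧ l < 20) →
      wordImg x y z w < 192 ∧ evW f (word (wordImg x y z w)) = g * evW f w * g⁻¹ := by
    intro w
    induction w with
    | nil =>
      intro _
      refine ⟨by norm_num [wordImg], ?_⟩
      show evW f (word 0) = _
      rw [show word 0 = [] from rfl, evW_nil]; group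
    | cons l w ih =>
      intro h
      obtain ⟨h1, h2⟩ := ih fun a ha' => h a (List.mem_cons_of_mem l ha')
      obtain ⟨h3, h4⟩ := hlet l (h l List.mem_cons_self).1 (h l List.mem_cons_self).2
      obtain ⟨h5, h6⟩ := T.mulI_spec h3 h1
      refine ⟨h5, ?_⟩
      show evW f (word (mulI _ _)) = _
      rw [h6, h2, h4, evW_cons]; group
  have hrel : ∀ w : List ℕ, (∀ l ∈ w, 14 ≤ l ∧ l < 20) → act 0 w = 0 → wordImg x y z w = 0 := by
    intro w hw h0
    obtain ⟨h1, h2⟩ := himg w hw
    apply T.inj _ h1 0 (by norm_num)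
    have h' := (T.act_zero hw).2
    rw [h0, show word 0 = [] from rfl, evW_nil] at h'
    rw [h2, ← h', show word 0 = [] from rfl, evW_nil]; group
  have c1 : wordImg x y z r1 = 0 := hrel r1 (by decide) (by decide +kernel)
  have c2 : wordImg x y z r2 = 0 := hrel r2 (by decide) (by decide +kernel)
  have c3 : wordImg x y z r3 = 0 := hrel r3 (by decide) (by decide +kernel)
  have cx : mulI x (mulI x x) = 0 := by
    have h1 := T.mulI_spec hx hx
    have h2 := T.mulI_spec hx h1.1
    apply T.inj _ h2.1 0 (by norm_num)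
    rw [h2.2, h1.2, ← ex, show word 0 = [] from rfl, evW_nil]
    have h' := (T.act_zero (w := [14, 14, 14]) (by decide)).2
    rw [show act 0 [14, 14, 14] = 0 from by decide +kernel, show word 0 = [] from rfl] at h'
    simp only [evW_cons, evW_nil, mul_one] at h'
    calc g * f 14 * g⁻¹ * (g * f 14 * g⁻¹ * (g * f 14 * g⁻¹))
        = g * (f 14 * (f 14 * f 14)) * g⁻¹ := by group
      _ = 1 := by rw [← h']; group
  have tgtA : evW f (word iA) = evW f Data.aWord := by
    rw [← (T.act_zero (w := Data.aWord) (by decide)).2,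
      show act 0 Data.aWord = iA from by decide +kernel]
  have cy : mulI y y = iA := by
    have h1 := T.mulI_spec hy hy
    apply T.inj _ h1.1 iA (by decide)
    rw [h1.2, tgtA, ← ey, ← ht]
    simp only [Data.tWord, evW_cons, evW_nil, mul_one]
    group
  have ca : wordImg x y 0 Data.aWord = iTA := by
    have e0 : wordImg x y 0 Data.aWord = wordImg x y z Data.aWord := rfl
    obtain ⟨h1, h2⟩ := himg Data.aWord (by decide)
    rw [e0]
    apply T.inj _ h1 iTA (by decide)
    rw [h2, ha, ← evW_append, ← (T.act_zero (w := Data.tWord ++ Data.aWord) (by decide)).2,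
      show act 0 (Data.tWord ++ Data.aWord) = iTA from by decide +kernel]
  -- the check
  have hchk : checkZ x y z = true := by
    have h1 := List.all_eq_true.1 check_all x (List.mem_range.2 hx)
    rw [checkX, if_pos (by simpa using cx), List.all_eq_true] at h1
    have h2 := h1 y (List.mem_range.2 hy)
    rw [checkY, if_pos (by simpa using cy), if_pos (by simpa using ca), List.all_eq_true] at h2
    exact h2 z (List.mem_range.2 hz)
  rw [checkZ, if_pos (by simpa using c1), if_pos (by simpa using c2),
    if_pos (by simpa using c3), Bool.or_eq_true] at hchk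
  rcases hchk with h | h
  · obtain ⟨k, hk, hg⟩ := List.any_eq_true.1 h
    rw [List.mem_range] at hk
    simp only [isGood, Bool.and_eq_true, beq_iff_eq] at hg
    refine ⟨k, hk, ?_⟩
    have key : ∀ u b : ℕ, u < 192 → b < 192 → ∀ s : G, g * s * g⁻¹ = evW f (word u) →
        mulI u k = mulI k b →
        (evW f (word k))⁻¹ * g * s * ((evW f (word k))⁻¹ * g)⁻¹ = evW f (word b) := by
      intro u b hu hb s hs he
      have h1 := (T.mulI_spec hu hk).2
      rw [he, (T.mulI_spec hk hb).2] at h1
      calc (evW f (word k))⁻¹ * g * s * ((evW f (word k))⁻¹ * g)⁻¹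
          = (evW f (word k))⁻¹ * (g * s * g⁻¹) * evW f (word k) := by group
        _ = evW f (word b) := by rw [hs, mul_assoc, ← h1, inv_mul_cancel_left]
    exact ⟨key x b14 hx (by decide) _ ex hg.1, key y b16 hy (by decide) _ ey hg.2.1,
      key z b18 hz (by decide) _ ez hg.2.2⟩
  · exfalso
    have hno : ¬ (List.range 192).any (isCube x y z) = true := by simpa using h
    refine hno (List.any_eq_true.2 ⟨m, List.mem_range.2 hm, ?_⟩)
    -- the cube of the substitution is conjugation by `g ^ 3`
    have key : ∀ u l : ℕ, u < 192 → 14 ≤ l → l < 20 → g * f l * g⁻¹ = evW f (word u) →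
        mulI (wordImg x y z (word (wordImg x y z (word u)))) m = mulI m (act 0 [l]) := by
      intro u l hu h14 h20 hs
      obtain ⟨h1, h2⟩ := himg (word u) (word_lt u hu)
      obtain ⟨h3, h4⟩ := himg (word _) (word_lt _ h1)
      have hl : ∀ l' ∈ [l], 14 ≤ l' ∧ l' < 20 := by simp [h14, h20]
      obtain ⟨h5, h6⟩ := T.act_zero hl
      apply T.inj _ (T.mulI_spec h3 hm).1 _ (T.mulI_spec hm h5).1
      rw [(T.mulI_spec h3 hm).2, (T.mulI_spec hm h5).2, h4, h2, h6, ← hs, ← em, evW_cons, evW_nil,
        mul_one, show g ^ 3 = g * g * g from (pow_succ g 2).trans (by rw [pow_two])]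
      group
    simp only [isCube, Bool.and_eq_true, beq_iff_eq]
    exact ⟨key x 14 hx le_rfl (by norm_num) ex, key y 16 hy (by norm_num) (by norm_num) ey,
      key z 18 hz (by norm_num) (by norm_num) ez⟩

/-- A corrected rotation satisfies the relations of `Data.gRels` other than the first. -/
theorem gRels_of_rotation (T : Table f) {g : G} (h12 : f 12 = g) (h13 : f 13 = g⁻¹)
    (h1 : g * f 14 * g⁻¹ = evW f (word b14)) (h2 : g * f 16 * g⁻¹ = evW f (word b16))
    (h3 : g * f 18 * g⁻¹ = evW f (word b18)) :
    ∀ w ∈ Data.gRels.tail, evW f w = 1 := by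
  have key : ∀ (l b : ℕ) (v : List ℕ), (∀ a ∈ v, 14 ≤ a ∧ a < 20) →
      g * f l * g⁻¹ = evW f (word b) → act 0 (invW v) = b → evW f ([12, l, 13] ++ v) = 1 := by
    intro l b v hv hl hb
    have hv' : ∀ a ∈ invW v, 14 ≤ a ∧ a < 20 := by
      intro a ha
      rw [invW, List.mem_reverse, List.mem_map] at ha
      obtain ⟨m, hm, rfl⟩ := ha
      exact invl_range m (hv m hm).1 (hv m hm).2
    have e : evW f (word b) = (evW f v)⁻¹ := by
      rw [← hb, (T.act_zero hv').2, T.evW_invW v hv]
    rw [evW_append]
    simp only [evW_cons, evW_nil, mul_one, h12, h13]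
    rw [← mul_assoc g, hl, e, inv_mul_cancel]
  intro w hw
  simp only [Data.gRels, List.tail_cons, List.mem_cons, List.not_mem_nil, or_false] at hw
  rcases hw with rfl | rfl | rfl
  · exact key 14 b14 [19, 15, 18] (by decide) h1 (by decide +kernel)
  · exact key 16 b16 [17, 19, 17, 15] (by decide) h2 (by decide +kernel)
  · exact key 18 b18 [14, 17, 18, 14, 17] (by decide) h3 (by decide +kernel)

end Table

end CfsgLib.McLUnique.K0Rot
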