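import Cfsg.Agent.Lib.McLUnique.Data
import Mathlib.Tactic.IntervalCases
import Mathlib.Tactic.Group
import Mathlib.Tactic.NormNum

/-!
McL from an involution centraliser: indices in the centraliser of the four-group, and the test
of a rotation.

The group of the 192 words `Data.kWords` is described by right multiplication with the letters
14, …, 19 on indices.  An automorphism of it cycling `t, a, t * a` whose cube is inner agrees on the
three generators with the model rotation followed by an inner automorphism.
-/

set_option autoImplicit false
set_option maxRecDepth 100000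

namespace CfsgLib.McLUnique.K0Rot

open CfsgLib.Presented

universe u

/-- Right multiplication by the six letters on indices, eight bits an entry. -/
def column : ℕ → ℕ
  | 0 => 0xa2a1b2b3bebf8eb98db7abaaaeafb4b5bdbc9998b0b1adac959771706cbabba7a66576779293a9a89f58a057888b7d784db8b6529b43519a424463643d833c81377f4ba4a5337a4a60612e752d737b7c39276e6ba33a94962367623f409e9d9c871e5e8a1d5b1f68691a192f3e474829164f4c8f91902a898c1246415c5f8685842b8280592428557e0c365679110b311b74720d5313176f6d08266a663207213b5d5a0954343805504e04154945220310180a35302c0625201c0e140f000201
  | 1 => 0xbabbafaea1a2b88eb68db0b1bcbdaaabb2b3a9a8b5b49998a09f7b7c6bbfbe95976261608b88adaca668a7699a9b4b4a4cb9b747925c48935f41403f823d803c7e379170717933909c9d742e722da5a4286d27a36c24575866239e8485657677425d1e435a1d3b969434381b2b8c89174e168f4d7d781351524512868a874463645383811f6a6f197f350c1a7a22300b5475730a3e4950396e25083a67112007595e5b062f56550e294f14042a46320f03052c36310d1c262109181510010002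
  | 2 => 0xa8a99c9d90919fa3a09e888b878a868f84859694797ebfbe8c899a9bb6666db9b7b8bdbca5a45a5d82ac80ad7472bbbab1454ea6b5b3a7b4b2b0afae6c9565976aab5b33376faa5e31364d9244932c537f49a281347a232750a1832126382025307d99357898521c54464f587118596e568e73241317671216558d751015280f143a0e3b3d0d3e6b7c775f627b0c765c2a0a2b702e092f4c69646141680863601a061b571e051f514b4843404a4704423f3c3902322d2901221d1900110b0703
  | 3 => 0xa9a89d9c9190a09e9fa38b888a878f86858494967e79bebf898c9b9ab86d66b7b9b6bcbda4a55d5a80ad82ac7274babbb04e45a7b4b2a6b5b3b1aeaf65976c956faa5e37336aab5b363144934d92532c7a50a183387f272349a2812621342520357898307d9951541c4f465770591867558d752817136e1612568e73151024140f393b0e3c3e0d627b765c6b7c0b775f292b0a712d2f09416863604c69076461191b06581d1f05524a47423f4b480343403d3a32022e2a22011e1a11000c0804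
  | 4 => 0xaaabb9b7b8b6a1b1a2b08d8ebebfbabbb5b49c9db2b3a4a5848577766abdbc94966f83818a878280726474635a5d565549afae43895b428c5e507573ad71ac709036793c3d91317ea9a8a758a6579899679e2666256e2d2ea3216da09f207c7b489b52479a512c97957f7a181c9392468615451435304f1d1e8f104e8b880f69680e6160326b620c347d190b383e781a0a403f54224c4108246c3907282f653a065f5c59114b4a5304134d2903171f442a023b3733012b2723001b16120d0905
  | 5 => 0xb2b3a2a1b0b1bdbbbcbaafaeaaabb8b68e8d8381bebf77767573a8a967b7b964636eacad5e5b7071589f57a052517a7f46b4b588439b8b429a4fa6a79d999c985678366160557d31a5a48595849782809e6a65263aa3403f6f6c219694393d3c1e87921d8a931c747291902c185d5a864944152a1a198f5f5c504d108c89292e2d327b7c0d2025330c7e4b370b3b794a22686959090f1423086d6b27072b6662114748530530355412044e4c16031b45413e0238342f0128241f0017130e0a06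
  | _ => 0

/-- Right multiplication of index `i` by letter `l`. -/
def step (i l : ℕ) : ℕ := (column (l - 14) >>> (8 * i)) % 256

/-- The index of the product of index `i` with a word. -/
def act (i : ℕ) (w : List ℕ) : ℕ := w.foldl step i

/-- The word of an index. -/
def word (i : ℕ) : List ℕ := Data.kWords.getD i []

/-- The product of two indices. -/
def mulI (i j : ℕ) : ℕ := act i (word j)

/-- The inverse word. -/
def invW (w : List ℕ) : List ℕ := (w.map invl).reverse

/-- The inverse of an index. -/
def invI (i : ℕ) : ℕ := act 0 (invW (word i))

/-- The image of a letter when the three generators go to `x, y, z`. -/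
def letterImg (x y z l : ℕ) : ℕ :=
  if l = 14 then x else if l = 15 then invI x else if l = 16 then y
  else if l = 17 then invI y else if l = 18 then z else invI z

/-- The image of a word when the three generators go to `x, y, z`. -/
def wordImg (x y z : ℕ) : List ℕ → ℕ
  | [] => 0
  | l :: w => mulI (letterImg x y z l) (wordImg x y z w)

/-- The index of `t`. -/
def iT : ℕ := 17
/-- The index of `a`. -/
def iA : ℕ := 189
/-- The index of `t * a`. -/
def iTA : ℕ := 188
/-- The images of the generators under the model rotation. -/
def b14 : ℕ := 89
/-- The images of the generators under the model rotation. -/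
def b16 : ℕ := 104
/-- The images of the generators under the model rotation. -/
def b18 : ℕ := 183

/-- Three words with trivial value. -/
def r1 : List ℕ := [16, 19, 17, 15, 19, 14, 16, 14]
/-- Three words with trivial value. -/
def r2 : List ℕ := [18, 18, 18, 17, 17]
/-- Three words with trivial value. -/
def r3 : List ℕ := [15, 16, 14, 18, 16, 19]

/-- Index `k` turns the images into those of the model rotation. -/
def isGood (x y z k : ℕ) : Bool :=
  mulI x k == mulI k b14 && (mulI y k == mulI k b16 && mulI z k == mulI k b18)

/-- Index `m` conjugates the generators as the cube of the substitution does. -/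
def isCube (x y z m : ℕ) : Bool :=
  mulI (wordImg x y z (word (wordImg x y z (word x)))) m == mulI m (act 0 [14]) &&
    (mulI (wordImg x y z (word (wordImg x y z (word y)))) m == mulI m (act 0 [16]) &&
      mulI (wordImg x y z (word (wordImg x y z (word z)))) m == mulI m (act 0 [18]))

/-- The check for one triple. -/
def checkZ (x y z : ℕ) : Bool :=
  if wordImg x y z r1 == 0 then if wordImg x y z r2 == 0 then if wordImg x y z r3 == 0 then
    (List.range 192).any (isGood x y z) || !(List.range 192).any (isCube x y z)
  else true else true else true

/-- The check for one pair. -/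
def checkY (x y : ℕ) : Bool :=
  if mulI y y == iA then if wordImg x y 0 Data.aWord == iTA then
    (List.range 192).all (checkZ x y) else true else true

/-- The check for one image of the first generator. -/
def checkX (x : ℕ) : Bool :=
  if mulI x (mulI x x) == 0 then (List.range 192).all (checkY x) else true

end CfsgLib.McLUnique.K0Rot
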