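import Cfsg.Agent.Lib.McLUnique.LocalCheckDefs

/-! Some of the tests. -/

set_option autoImplicit false
set_option maxRecDepth 100000
set_option Elab.async false

namespace CfsgLib.McLUnique.LocalModel

open CfsgLib.Presented CfsgLib.Schur.MultiplierMcL ModelCodes K0Rot SideAct Power

theorem k_ok1 : ((List.range' 96 96).all kTest) = true := by decide +kernel

end CfsgLib.McLUnique.LocalModel
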