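import Cfsg.Agent.Lib.McLUnique.LocalCheckK0
import Cfsg.Agent.Lib.McLUnique.LocalCheckK1
import Cfsg.Agent.Lib.McLUnique.LocalCheckS0
import Cfsg.Agent.Lib.McLUnique.LocalCheckS1
import Cfsg.Agent.Lib.McLUnique.LocalCheckO0
import Cfsg.Agent.Lib.McLUnique.LocalCheckO1
import Cfsg.Agent.Lib.McLUnique.LocalCheckO2
import Cfsg.Agent.Lib.McLUnique.LocalCheckA1
import Cfsg.Agent.Lib.McLUnique.LocalCheckA2

/-! The tests on the codes of the model used in the local step. -/
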