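import Cfsg.Agent.Lib.McLUnique.Interface
import Mathlib.Logic.Function.Iterate
import Mathlib.Tactic.Group

/-!
McL from an involution centraliser: powers of elements acting on a self-centralising set.

`θ` lists a subset which is its own centraliser (an elementary abelian group of order 16 through the
involution).  An element acting on the list as `σ` with `σ^[m] = id` has `m`-th power equal to a
listed element fixed by `σ`.
-/

set_option autoImplicit false

namespace CfsgLib.McLUnique.Power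

open CfsgLib.Presented

universe u w

variable {G : Type u} [Group G] {ι : Type w}

/-- The listed elements are distinct and only they centralise all of them. -/
structure SelfCentral (θ : ι → G) : Prop where
  inj : Function.Injective θ
  cen : ∀ x : G, (∀ i, x * θ i = θ i * x) → ∃ j, x = θ j

/-- The list transported from the centraliser of `t` stays self-centralising in `G`. -/
theorem selfCentral_of_hom {C : Type*} [Group C] (φ : C →* G) (hinj : Function.Injective φ) {t : G}
    (hrange : φ.range = Subgroup.centralizer ({t} : Set G)) {θ₀ : ι → C} (hθ : Function.Injective θ₀)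
    {i₀ : ι} (hi₀ : φ (θ₀ i₀) = t) (hcen : ∀ c : C, (∀ i, c * θ₀ i = θ₀ i * c) → ∃ j, c = θ₀ j) :
    SelfCentral fun i => φ (θ₀ i) := by
  refine ⟨fun i j e => hθ (hinj e), fun x hx => ?_⟩
  obtain ⟨c, rfl⟩ : x ∈ φ.range := by
    rw [hrange]
    exact Subgroup.mem_centralizer_singleton_iff.2 (hi₀ ▸ hx i₀)
  obtain ⟨j, rfl⟩ := hcen c fun i => hinj (by rw [map_mul, map_mul]; exact hx i)
  exact ⟨j, rfl⟩

/-- Conjugation by `x` moves the list as `σ`. -/
def Acts (θ : ι → G) (x : G) (σ : ι → ι) : Prop := ∀ i, x * θ i * x⁻¹ = θ (σ i)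

theorem acts_one (θ : ι → G) : Acts θ 1 id := fun i => by simp

theorem Acts.mul {θ : ι → G} {x y : G} {σ τ : ι → ι} (hx : Acts θ x σ) (hy : Acts θ y τ) :
    Acts θ (x * y) (σ ∘ τ) := fun i => by
  rw [show x * y * θ i * (x * y)⁻¹ = x * (y * θ i * y⁻¹) * x⁻¹ by group, hy, hx]; rfl

theorem Acts.congr {θ : ι → G} {x : G} {σ τ : ι → ι} (hx : Acts θ x σ) (h : ∀ i, σ i = τ i) :
    Acts θ x τ := fun i => h i ▸ hx i

/-- An inverse permutation describes the inverse element. -/
theorem Acts.inv {θ : ι → G} {x : G} {σ τ : ι → ι} (hx : Acts θ x σ) (h : ∀ i, σ (τ i) = i) :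
    Acts θ x⁻¹ τ := fun i => by
  have := hx (τ i)
  rw [h i] at this
  rw [← this]; group

/-- The images of a point under the product of the actions of the letters of a word. -/
def wordAct (τ : ℕ → ι → ι) : List ℕ → ι → ι
  | [], i => i
  | l :: w, i => τ l (wordAct τ w i)

/-- The action of a word is composed from those of its letters. -/
theorem acts_evW {θ : ι → G} {f : ℕ → G} {τ : ℕ → ι → ι} :
    ∀ {w : List ℕ}, (∀ l ∈ w, Acts θ (f l) (τ l)) → Acts θ (evW f w) (wordAct τ w)
  | [], _ => by rw [evW_nil]; exact acts_one θ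
  | l :: w, h => by
    rw [evW_cons]
    exact (h l List.mem_cons_self).mul (acts_evW fun a ha => h a (List.mem_cons_of_mem l ha))

theorem Acts.pow {θ : ι → G} {x : G} {σ : ι → ι} (hx : Acts θ x σ) :
    ∀ m : ℕ, Acts θ (x ^ m) σ^[m]
  | 0 => by rw [pow_zero]; exact acts_one θ
  | m + 1 => by
    rw [pow_succ, Function.iterate_succ]
    exact (hx.pow m).mul hx

namespace SelfCentral

variable {θ : ι → G}

/-- An element fixing the list pointwise is listed. -/
theorem exists_eq_of_acts (h : SelfCentral θ) {x : G} {σ : ι → ι} (hx : Acts θ x σ)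
    (hσ : ∀ i, σ i = i) : ∃ j, x = θ j :=
  h.cen x fun i => mul_inv_eq_iff_eq_mul.1 ((hx i).trans (by rw [hσ i]))

/-- The power is a listed element fixed by the action. -/
theorem exists_pow_eq (h : SelfCentral θ) {x : G} {σ : ι → ι} (hx : Acts θ x σ) {m : ℕ}
    (hm : ∀ i, σ^[m] i = i) : ∃ j, σ j = j ∧ x ^ m = θ j := by
  obtain ⟨j, hj⟩ := h.exists_eq_of_acts (hx.pow m) hm
  refine ⟨j, h.inj ?_, hj⟩
  rw [← hx j, ← hj]; group

/-- Without fixed elements other than `1` the power is `1`. -/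
theorem pow_eq_one (h : SelfCentral θ) {x : G} {σ : ι → ι} (hx : Acts θ x σ) {m : ℕ}
    (hm : ∀ i, σ^[m] i = i) {i₁ : ι} (h1 : θ i₁ = 1) (hfix : ∀ j, σ j = j → j = i₁) :
    x ^ m = 1 := by
  obtain ⟨j, hj, e⟩ := h.exists_pow_eq hx hm
  rw [e, hfix j hj, h1]

/-- With one further fixed element the power is `1` or that element. -/
theorem pow_eq_or (h : SelfCentral θ) {x : G} {σ : ι → ι} (hx : Acts θ x σ) {m : ℕ}
    (hm : ∀ i, σ^[m] i = i) {i₁ i₂ : ι} (h1 : θ i₁ = 1)
    (hfix : ∀ j, σ j = j → j = i₁ ∨ j = i₂) : x ^ m = 1 ∨ x ^ m = θ i₂ := by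
  obtain ⟨j, hj, e⟩ := h.exists_pow_eq hx hm
  rcases hfix j hj with rfl | rfl
  · exact Or.inl (e.trans h1)
  · exact Or.inr e

/-- The value of a power word. -/
theorem evW_wpow_eq_one (h : SelfCentral θ) {f : ℕ → G} {τ : ℕ → ι → ι} {w : List ℕ}
    (hl : ∀ l ∈ w, Acts θ (f l) (τ l)) {m : ℕ} (hm : ∀ i, (wordAct τ w)^[m] i = i) {i₁ : ι}
    (h1 : θ i₁ = 1) (hfix : ∀ j, wordAct τ w j = j → j = i₁) : evW f (wpow w m) = 1 := by
  rw [evW_wpow]; exact h.pow_eq_one (acts_evW hl) hm h1 hfix

/-- The value of a pin word. -/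
theorem evW_wpow_eq_or (h : SelfCentral θ) {f : ℕ → G} {τ : ℕ → ι → ι} {w : List ℕ}
    (hl : ∀ l ∈ w, Acts θ (f l) (τ l)) {m : ℕ} (hm : ∀ i, (wordAct τ w)^[m] i = i) {i₁ i₂ : ι}
    (h1 : θ i₁ = 1) (hfix : ∀ j, wordAct τ w j = j → j = i₁ ∨ j = i₂) :
    evW f (wpow w m) = 1 ∨ evW f (wpow w m) = θ i₂ := by
  rw [evW_wpow]; exact h.pow_eq_or (acts_evW hl) hm h1 hfix

end SelfCentral

/-- Multiplying by a listed element, which commutes with the list, does not change the action. -/
theorem acts_mul_listed {θ : ι → G} {x : G} {σ : ι → ι} (hx : Acts θ x σ) {j : ι}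
    (hab : ∀ i, θ j * θ i = θ i * θ j) : Acts θ (x * θ j) σ := fun i => by
  rw [show x * θ j * θ i * (x * θ j)⁻¹ = x * (θ j * θ i * (θ j)⁻¹) * x⁻¹ by group, hab i,
    mul_inv_cancel_right, hx]

end CfsgLib.McLUnique.Power
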