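import Cfsg.Agent.Lib.McLUnique.K0Rot
import Cfsg.Agent.Lib.McLUnique.Power
import Mathlib.Tactic.FinCases

/-!
McL from an involution centraliser: the letters acting on the two groups of order 16.

The corrected rotation moves the 192 elements by `rotI`.  With the actions of the centraliser letters
4, …, 7 and 8, …, 11 given, the power relations hold and each pin takes one of two values.
-/

set_option autoImplicit false
set_option maxRecDepth 100000

namespace CfsgLib.McLUnique.SideAct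

open CfsgLib.Presented K0Rot Power

universe u

variable {G : Type u} [Group G]

/-- The image of an index under the model rotation. -/
def rotI (i : ℕ) : ℕ := wordImg b14 b16 b18 (word i)

/-- The indices of `Data.aWords1`. -/
def aIdx1 : List ℕ := [0, 47, 177, 141, 17, 9, 176, 142, 188, 191, 14, 44, 190, 189, 59, 83]
/-- The indices of `Data.aWords2`. -/
def aIdx2 : List ℕ := [0, 111, 169, 52, 168, 17, 166, 56, 167, 106, 146, 41, 188, 42, 147, 189]

/-- The actions on the first group, four bits an image. -/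
def code1 : ℕ → ℕ
  | 4 => 0x817fd5b32ac46e90
  | 5 => 0xc2b5961fd3a487e0
  | 6 => 0x6fc52b197ed43a80
  | 7 => 0xe65da2817fc43b90
  | 12 => 0xe1863cb45a2d97f0
  | 13 => 0x1f4a963d2c78b5e0
  | 14 => 0xe1d2a56897b4c3f0
  | 15 => 0x1fd35b7869a42ce0
  | 16 => 0x63d927c8af14eb50
  | 17 => 0x63d927c8af14eb50
  | 18 => 0x1fd35b7869a42ce0
  | 19 => 0xe1d2a56897b4c3f0
  | _ => 0

/-- The actions on the second group, four bits an image. -/
def code2 : ℕ → ℕ
  | 8 => 0x1a294ef7d356b8c0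
  | 9 => 0x9a713ec2845b6df0
  | 10 => 0xe89a16b4325f7cd0
  | 11 => 0x4f129cde3a5876b0
  | 12 => 0xc4358b2ae9f716d0
  | 13 => 0x571fa86b42ced930
  | 14 => 0xf69c1832b45eda70
  | 15 => 0xf43c72da1e5698b0
  | 16 => 0xf1bcd9a7835264e0
  | 17 => 0xf1bcd9a7835264e0
  | 18 => 0xfb7c3d21a958e640
  | 19 => 0xf3ace764d251b980
  | _ => 0

/-- The image of a place under an action code. -/
def place (c : ℕ) (i : Fin 16) : Fin 16 := ⟨(c >>> (4 * i.val)) % 16, Nat.mod_lt _ (by decide)⟩

/-- The action of the letters on the first group. -/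
def act1 (l : ℕ) : Fin 16 → Fin 16 := place (code1 l)
/-- The action of the letters on the second group. -/
def act2 (l : ℕ) : Fin 16 → Fin 16 := place (code2 l)

/-- The first group as a list. -/
def theta1 (f : ℕ → G) (i : Fin 16) : G := evW f (Data.aWords1.getD i [])
/-- The second group as a list. -/
def theta2 (f : ℕ → G) (i : Fin 16) : G := evW f (Data.aWords2.getD i [])

/-- The hypotheses on an assignment with corrected rotation. -/
structure Rot (f : ℕ → G) : Prop where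
  table : Table f
  h13 : f 13 = (f 12)⁻¹
  r14 : f 12 * f 14 * (f 12)⁻¹ = evW f (word b14)
  r16 : f 12 * f 16 * (f 12)⁻¹ = evW f (word b16)
  r18 : f 12 * f 18 * (f 12)⁻¹ = evW f (word b18)

namespace Rot

variable {f : ℕ → G}

theorem rot_letter (R : Rot f) : ∀ l, 14 ≤ l → l < 20 →
    letterImg b14 b16 b18 l < 192 ∧
      evW f (word (letterImg b14 b16 b18 l)) = f 12 * f l * (f 12)⁻¹ := by
  intro l h14 h20
  have T := R.table
  have hi : ∀ b m : ℕ, b < 192 → f 12 * f m * (f 12)⁻¹ = evW f (word b) → ∀ n, f n = (f m)⁻¹ →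
      invI b < 192 ∧ evW f (word (invI b)) = f 12 * f n * (f 12)⁻¹ := by
    intro b m hb h n hn
    refine ⟨(T.invI_spec hb).1, ?_⟩
    rw [(T.invI_spec hb).2, ← h, hn]; group
  interval_cases l
  · exact ⟨by decide, R.r14.symm⟩
  · exact hi b14 14 (by decide) R.r14 15
      (eq_inv_of_mul_eq_one_left (T.inv 14 (by norm_num) (by norm_num)))
  · exact ⟨by decide, R.r16.symm⟩
  · exact hi b16 16 (by decide) R.r16 17
      (eq_inv_of_mul_eq_one_left (T.inv 16 (by norm_num) (by norm_num)))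
  · exact ⟨by decide, R.r18.symm⟩
  · exact hi b18 18 (by decide) R.r18 19
      (eq_inv_of_mul_eq_one_left (T.inv 18 (by norm_num) (by norm_num)))

theorem rot_word (R : Rot f) : ∀ w : List ℕ, (∀ l ∈ w, 14 ≤ l ∧ l < 20) →
    wordImg b14 b16 b18 w < 192 ∧
      evW f (word (wordImg b14 b16 b18 w)) = f 12 * evW f w * (f 12)⁻¹
  | [], _ => by
    refine ⟨by norm_num [wordImg], ?_⟩
    show evW f (word 0) = _
    rw [show word 0 = [] from rfl, evW_nil]; group
  | l :: w, h => by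
    obtain ⟨h1, h2⟩ := R.rot_word w fun a ha => h a (List.mem_cons_of_mem l ha)
    obtain ⟨h3, h4⟩ := R.rot_letter l (h l List.mem_cons_self).1 (h l List.mem_cons_self).2
    obtain ⟨h5, h6⟩ := R.table.mulI_spec h3 h1
    refine ⟨h5, ?_⟩
    show evW f (word (mulI _ _)) = _
    rw [h6, h2, h4, evW_cons]; group

/-- The rotation moves the 192 elements by `rotI`. -/
theorem rot_spec (R : Rot f) {i : ℕ} (hi : i < 192) :
    rotI i < 192 ∧ evW f (word (rotI i)) = f 12 * evW f (word i) * (f 12)⁻¹ :=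
  R.rot_word _ (word_lt i hi)

/-- Conjugation by the rotation and the letters of the four-group centraliser on a listed subset. -/
theorem acts_of_check (R : Rot f) (θ : Fin 16 → G) (idx : List ℕ) (τ : ℕ → Fin 16 → Fin 16)
    (hidx : ∀ i : Fin 16, idx.getD i 0 < 192 ∧ θ i = evW f (word (idx.getD i 0)))
    (hK : ∀ l, l < 20 → 14 ≤ l → ∀ i : Fin 16,
      mulI (act 0 [l]) (idx.getD i 0) = mulI (idx.getD (τ l i) 0) (act 0 [l]))
    (h12 : ∀ i : Fin 16, rotI (idx.getD i 0) = idx.getD (τ 12 i) 0)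
    (h13 : ∀ i : Fin 16, τ 12 (τ 13 i) = i) :
    ∀ l, 12 ≤ l → l < 20 → Acts θ (f l) (τ l) := by
  have T := R.table
  have a12 : Acts θ (f 12) (τ 12) := fun i => by
    rw [(hidx i).2, (hidx (τ 12 i)).2, ← h12 i]
    exact (R.rot_spec (hidx i).1).2.symm
  intro l h1 h2
  rcases Nat.lt_or_ge l 14 with h | h
  · interval_cases l
    · exact a12
    · rw [R.h13]; exact a12.inv h13
  · intro i
    have hl : ∀ a ∈ [l], 14 ≤ a ∧ a < 20 := by simp [h, h2]
    obtain ⟨h5, h6⟩ := T.act_zero hl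
    rw [evW_cons, evW_nil, mul_one] at h6
    have e := congrArg (fun n => evW f (word n)) (hK l h2 h i)
    simp only [(T.mulI_spec h5 (hidx i).1).2, (T.mulI_spec (hidx (τ l i)).1 h5).2, h6] at e
    rw [(hidx i).2, (hidx (τ l i)).2, e, mul_inv_cancel_right]

theorem theta1_idx (R : Rot f) (i : Fin 16) :
    aIdx1.getD i 0 < 192 ∧ theta1 f i = evW f (word (aIdx1.getD i 0)) := by
  have hw : ∀ j : Fin 16, (∀ l ∈ Data.aWords1.getD j [], 14 ≤ l ∧ l < 20) ∧
      aIdx1.getD j 0 = act 0 (Data.aWords1.getD j []) := by decide +kernel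
  obtain ⟨h1, h2⟩ := hw i
  rw [h2]
  exact ⟨(R.table.act_zero h1).1, (R.table.act_zero h1).2.symm⟩

theorem theta2_idx (R : Rot f) (i : Fin 16) :
    aIdx2.getD i 0 < 192 ∧ theta2 f i = evW f (word (aIdx2.getD i 0)) := by
  have hw : ∀ j : Fin 16, (∀ l ∈ Data.aWords2.getD j [], 14 ≤ l ∧ l < 20) ∧
      aIdx2.getD j 0 = act 0 (Data.aWords2.getD j []) := by decide +kernel
  obtain ⟨h1, h2⟩ := hw i
  rw [h2]
  exact ⟨(R.table.act_zero h1).1, (R.table.act_zero h1).2.symm⟩

theorem acts1 (R : Rot f) : ∀ l, 12 ≤ l → l < 20 → Acts (theta1 f) (f l) (act1 l) :=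
  R.acts_of_check _ aIdx1 _ R.theta1_idx (by decide +kernel) (by decide +kernel) (by decide +kernel)

theorem acts2 (R : Rot f) : ∀ l, 12 ≤ l → l < 20 → Acts (theta2 f) (f l) (act2 l) :=
  R.acts_of_check _ aIdx2 _ R.theta2_idx (by decide +kernel) (by decide +kernel) (by decide +kernel)

/-- **Side 1.**  The powers are trivial and the pin is `1` or the fixed element. -/
theorem pows_side1 (R : Rot f) (hS : SelfCentral (theta1 f))
    (hC : ∀ l, l ∈ [4, 5, 6, 7] → Acts (theta1 f) (f l) (act1 l)) :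
    (∀ w ∈ Data.pows1.map Data.powWord, evW f w = 1) ∧
      (evW f (Data.powWord Data.pin1) = 1 ∨ evW f (Data.powWord Data.pin1) = evW f Data.pinFix1) := by
  have hall : ∀ w : List ℕ, (∀ l ∈ w, l ∈ [4, 5, 6, 7] ∨ (12 ≤ l ∧ l < 20)) →
      ∀ l ∈ w, Acts (theta1 f) (f l) (act1 l) := fun w hw l hl =>
    (hw l hl).elim (hC l) fun h => R.acts1 l h.1 h.2
  have h1 : theta1 f 0 = 1 := evW_nil f
  have e6 : theta1 f 6 = evW f Data.pinFix1 := by
    show evW f (Data.aWords1.getD _ []) = _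
    exact congrArg (evW f) (by decide)
  constructor
  · intro w hw
    obtain ⟨p, hp, rfl⟩ := List.mem_map.1 hw
    have hc : ∀ q ∈ Data.pows1, (∀ l ∈ q.1, l ∈ [4, 5, 6, 7] ∨ (12 ≤ l ∧ l < 20)) ∧
        (∀ i, (wordAct act1 q.1)^[q.2] i = i) ∧ ∀ i, wordAct act1 q.1 i = i → i = 0 := by
      decide +kernel
    obtain ⟨c1, c2, c3⟩ := hc p hp
    exact hS.evW_wpow_eq_one (hall _ c1) c2 h1 c3
  · have hc : (∀ l ∈ Data.pin1.1, l ∈ [4, 5, 6, 7] ∨ (12 ≤ l ∧ l < 20)) ∧
        (∀ i, (wordAct act1 Data.pin1.1)^[Data.pin1.2] i = i) ∧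
          ∀ i, wordAct act1 Data.pin1.1 i = i → i = 0 ∨ i = 6 := by decide +kernel
    rw [← e6]
    exact hS.evW_wpow_eq_or (hall _ hc.1) hc.2.1 h1 hc.2.2

/-- **Side 2.**  The powers are trivial and the pin is `1` or the fixed element. -/
theorem pows_side2 (R : Rot f) (hS : SelfCentral (theta2 f))
    (hC : ∀ l, l ∈ [8, 9, 10, 11] → Acts (theta2 f) (f l) (act2 l)) :
    (∀ w ∈ Data.pows2.map Data.powWord, evW f w = 1) ∧
      (evW f (Data.powWord Data.pin2) = 1 ∨ evW f (Data.powWord Data.pin2) = evW f Data.pinFix2) := by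
  have hall : ∀ w : List ℕ, (∀ l ∈ w, l ∈ [8, 9, 10, 11] ∨ (12 ≤ l ∧ l < 20)) →
      ∀ l ∈ w, Acts (theta2 f) (f l) (act2 l) := fun w hw l hl =>
    (hw l hl).elim (hC l) fun h => R.acts2 l h.1 h.2
  have h1 : theta2 f 0 = 1 := evW_nil f
  have e6 : theta2 f 6 = evW f Data.pinFix2 := by
    show evW f (Data.aWords2.getD _ []) = _
    exact congrArg (evW f) (by decide)
  constructor
  · intro w hw
    obtain ⟨p, hp, rfl⟩ := List.mem_map.1 hw
    have hc : ∀ q ∈ Data.pows2, (∀ l ∈ q.1, l ∈ [8, 9, 10, 11] ∨ (12 ≤ l ∧ l < 20)) ∧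
        (∀ i, (wordAct act2 q.1)^[q.2] i = i) ∧ ∀ i, wordAct act2 q.1 i = i → i = 0 := by
      decide +kernel
    obtain ⟨c1, c2, c3⟩ := hc p hp
    exact hS.evW_wpow_eq_one (hall _ c1) c2 h1 c3
  · have hc : (∀ l ∈ Data.pin2.1, l ∈ [8, 9, 10, 11] ∨ (12 ≤ l ∧ l < 20)) ∧
        (∀ i, (wordAct act2 Data.pin2.1)^[Data.pin2.2] i = i) ∧
          ∀ i, wordAct act2 Data.pin2.1 i = i → i = 0 ∨ i = 6 := by decide +kernel
    rw [← e6]
    exact hS.evW_wpow_eq_or (hall _ hc.1) hc.2.1 h1 hc.2.2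

end Rot

end CfsgLib.McLUnique.SideAct
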