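import Cfsg.Agent.Lib.McLUnique.ModelCodes
import Cfsg.Agent.Lib.McLUnique.ModelLists
import Cfsg.Agent.Lib.McLUnique.SideAct

/-! Tests on the codes of the model used in the local step. -/

set_option autoImplicit false
set_option maxRecDepth 100000
set_option Elab.async false

namespace CfsgLib.McLUnique.LocalModel

open CfsgLib.Presented CfsgLib.Schur.MultiplierMcL ModelCodes K0Rot SideAct Power

/-- The test of the code of one word of the table. -/
noncomputable def kTest (i : ℕ) : Bool := Nat.beq (wc (word i)) (kCodes.getD i one)

/-- The test of one step of the table. -/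
noncomputable def stepTest (i : ℕ) : Bool :=
  (List.range' 14 6).all fun l =>
    Nat.beq (mul (kCodes.getD i one) (Data.codes.getD l one)) (kCodes.getD (step i l) one)

/-- The test of an action of a letter. -/
noncomputable def actTest (aw : List (List ℕ)) (τ : ℕ → Fin 16 → Fin 16) (l : ℕ) : Bool :=
  (List.finRange 16).all fun i => same ([l] ++ aw.getD i.val []) (aw.getD (τ l i).val [] ++ [l])

/-- The test of one conjugate of the second involution: it comes from an earlier one by one letter. -/
noncomputable def orbTest (k : ℕ) : Bool :=
  match orbWords.getD k [] with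
  | [] => Nat.beq (wc Data.aWord) (orbCodes.getD k one)
  | l :: w => Nat.blt (orbWords.idxOf w) k && (orbWords.getD (orbWords.idxOf w) [] == w) &&
      Nat.blt l 20 && Nat.beq (mul (mul (Data.codes.getD l one) (orbCodes.getD (orbWords.idxOf w) one))
        (Data.codes.getD (invl l) one)) (orbCodes.getD k one)

end CfsgLib.McLUnique.LocalModel
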