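import Cfsg.Agent.Lib.McLUnique.ModelCodes
import Cfsg.Agent.Lib.McLUnique.ModelLists

/-!
The two complements in the model meet the groups of order 16 only in the identity.
-/

set_option autoImplicit false
set_option maxRecDepth 100000
set_option Elab.async false

namespace CfsgLib.McLUnique.LocalModel

open CfsgLib.Presented CfsgLib.Schur.MultiplierMcL ModelCodes CfsgLib.Golay CfsgLib.Golay.LeechOrbit

/-- The closure test of one element of a list. -/
noncomputable def lTest (L : List ℕ) (gens : List (List ℕ)) (j : ℕ) : Bool :=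
  gens.all fun w => forceN (mul (L.getD j one) (wc w)) fun c => L.any fun d => Nat.beq c d

/-- The listed elements of the group meet the list only in the identity. -/
noncomputable def meetTest (L : List ℕ) (aw : List (List ℕ)) (i : ℕ) : Bool :=
  Nat.beq i 0 || forceN (wc (aw.getD i [])) fun c => L.all fun d => !Nat.beq c d

theorem l1_ok0 : ((List.range' 0 84).all (lTest lCodes1 Data.lWords1)) = true := by decide +kernel

theorem l1_ok1 : ((List.range' 84 84).all (lTest lCodes1 Data.lWords1)) = true := by decide +kernel

theorem l2_ok0 : ((List.range' 0 84).all (lTest lCodes2 Data.lWords2)) = true := by decide +kernel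

theorem l2_ok1 : ((List.range' 84 84).all (lTest lCodes2 Data.lWords2)) = true := by decide +kernel

theorem meet1_ok : ((List.range 16).all (meetTest lCodes1 Data.aWords1)) = true := by decide +kernel

theorem meet2_ok : ((List.range 16).all (meetTest lCodes2 Data.aWords2)) = true := by decide +kernel

theorem meet_of_ok (L : List ℕ) (gens aw : List (List ℕ)) (h1 : one ∈ L) (hlen : L.length = 168)
    (h0 : ((List.range' 0 84).all (lTest L gens)) = true)
    (h0' : ((List.range' 84 84).all (lTest L gens)) = true)
    (hm : ((List.range 16).all (meetTest L aw)) = true) (i : Fin 16)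
    (hi : evW f2 (aw.getD i.val []) ∈ Subgroup.closure {x : H | ∃ w ∈ gens, evW f2 w = x}) :
    i.val = 0 := by
  have hP : ∀ x ∈ Subgroup.closure {x : H | ∃ w ∈ gens, evW f2 w = x}, ∃ d ∈ L, Rep d x := by
    intro x hx
    rw [← Subgroup.mem_toSubmonoid, Subgroup.closure_toSubmonoid_of_finite] at hx
    induction hx using Submonoid.closure_induction_right with
    | one => exact ⟨one, h1, rep_one⟩
    | mul_right y _ z hz ih =>
      obtain ⟨w, hw, rfl⟩ := hz
      obtain ⟨d, hd, hrep⟩ := ih
      obtain ⟨j, hj, rfl⟩ := List.getElem_of_mem hd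
      have h : lTest L gens j = true := by
        rcases Nat.lt_or_ge j 84 with h | h
        · exact List.all_eq_true.1 h0 j (List.mem_range'_1.2 ⟨by omega, by omega⟩)
        · exact List.all_eq_true.1 h0' j (List.mem_range'_1.2 ⟨by omega, by omega⟩)
      have h' := List.all_eq_true.1 h w hw
      rw [forceN_eq, List.getD_eq_getElem _ _ hj] at h'
      obtain ⟨e, he, hbeq⟩ := List.any_eq_true.1 h'
      exact ⟨e, he, Nat.eq_of_beq_eq_true hbeq ▸ rep_mul hrep (rep_wc w)⟩
  obtain ⟨d, hd, hrep⟩ := hP _ hi
  by_contra hne
  have h := List.all_eq_true.1 hm i.val (List.mem_range.2 i.isLt)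
  rw [meetTest, forceN_eq, Bool.or_eq_true] at h
  rcases h with h | h
  · exact hne (Nat.eq_of_beq_eq_true h)
  · have h2 := List.all_eq_true.1 h d hd
    rw [rep_code (rep_wc _) hrep] at h2
    simp at h2

theorem meet1 (i : Fin 16)
    (hi : evW f2 (Data.aWords1.getD i.val []) ∈
      Subgroup.closure {x : H | ∃ w ∈ Data.lWords1, evW f2 w = x}) : i.val = 0 :=
  meet_of_ok lCodes1 _ _ (by decide +kernel) (by decide +kernel) l1_ok0 l1_ok1 meet1_ok i hi

theorem meet2 (i : Fin 16)
    (hi : evW f2 (Data.aWords2.getD i.val []) ∈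
      Subgroup.closure {x : H | ∃ w ∈ Data.lWords2, evW f2 w = x}) : i.val = 0 :=
  meet_of_ok lCodes2 _ _ (by decide +kernel) (by decide +kernel) l2_ok0 l2_ok1 meet2_ok i hi

end CfsgLib.McLUnique.LocalModel
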