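import Cfsg.Agent.Lib.McLUnique.LocalCheck
import Mathlib.GroupTheory.Index

/-!
Facts about the model used in the local step, checked on codes: the table of 192 elements, the actions
on the two groups of order 16, the centraliser of the second involution and the two complements.
-/

set_option autoImplicit false
set_option maxRecDepth 100000
set_option Elab.async false

namespace CfsgLib.McLUnique.LocalModel

open CfsgLib.Presented CfsgLib.Schur.MultiplierMcL ModelCodes K0Rot SideAct Power

/-- A letter of the centraliser. -/
def IsC (l : ℕ) : Prop := l < 20 ∧ l ≠ 12 ∧ l ≠ 13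

instance (l : ℕ) : Decidable (IsC l) := inferInstanceAs (Decidable (_ ∧ _))

theorem f2_mem {l : ℕ} (hl : IsC l) : f2 l ∈ cGroup f2 := by
  have h : ∀ k < 20, k = 12 ∨ k = 13 ∨ k ∈ cLetters ∨ ((k ^^^ 1) ∈ cLetters ∧ invl (k ^^^ 1) = k) := by
    decide +kernel
  rcases h l hl.1 with h | h | h | ⟨h, e⟩
  · exact absurd h hl.2.1
  · exact absurd h hl.2.2
  · exact Subgroup.subset_closure ⟨l, h, rfl⟩
  · have h20 : l ^^^ 1 < 20 := (by decide : ∀ i ∈ cLetters, i < 20) _ h
    rw [← e, eq_inv_of_mul_eq_one_left (f2_inv _ h20)]
    exact inv_mem (Subgroup.subset_closure ⟨_, h, rfl⟩)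

theorem evW_mem : ∀ {w : List ℕ}, (∀ l ∈ w, IsC l) → evW f2 w ∈ cGroup f2
  | [], _ => by simp
  | l :: w, h => by
    rw [evW_cons]
    exact mul_mem (f2_mem (h l List.mem_cons_self))
      (evW_mem fun x hx => h x (List.mem_cons_of_mem l hx))

theorem rep_word {i : ℕ} (hi : i < 192) : Rep (kCodes.getD i one) (evW f2 (word i)) := by
  have h : kTest i = true := by
    rcases Nat.lt_or_ge i 96 with h | h
    · exact List.all_eq_true.1 k_ok0 i (List.mem_range'_1.2 ⟨by omega, by omega⟩)
    · exact List.all_eq_true.1 k_ok1 i (List.mem_range'_1.2 ⟨by omega, by omega⟩)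
  rw [← Nat.eq_of_beq_eq_true h]
  exact rep_wc _

/-- The table holds in the model. -/
theorem table : Table f2 where
  inv i _ h20 := f2_inv i h20
  stepEq i hi l h14 h20 := by
    have h : stepTest i = true := by
      by_cases h0 : i < 48
      · exact List.all_eq_true.1 step_ok0 i (List.mem_range'_1.2 ⟨by omega, by omega⟩)
      by_cases h1 : i < 96
      · exact List.all_eq_true.1 step_ok1 i (List.mem_range'_1.2 ⟨by omega, by omega⟩)
      by_cases h2 : i < 144
      · exact List.all_eq_true.1 step_ok2 i (List.mem_range'_1.2 ⟨by omega, by omega⟩)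
      exact List.all_eq_true.1 step_ok3 i (List.mem_range'_1.2 ⟨by omega, by omega⟩)
    have hl := List.all_eq_true.1 h l (List.mem_range'_1.2 ⟨h14, by omega⟩)
    refine rep_uniq (rep_mul (rep_word hi) (rep_f2 l)) ?_
    rw [Nat.eq_of_beq_eq_true hl]
    exact rep_word (step_lt i hi l h20)
  inj i hi j hj e := by
    have hlen : kCodes.length = 192 := by decide +kernel
    have h := rep_code (rep_word hi) (e ▸ rep_word hj)
    rw [List.getD_eq_getElem _ _ (by omega), List.getD_eq_getElem _ _ (by omega)] at h
    exact k_nodup.getElem_inj_iff.1 h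

/-- The involution is central among the letters of the centraliser. -/
theorem t_comm {x : H} (hx : x ∈ cGroup f2) : x * evW f2 Data.tWord = evW f2 Data.tWord * x := by
  have h : (cLetters.all fun l => same ([l] ++ Data.tWord) (Data.tWord ++ [l])) = true := by decide +kernel
  have hle : cGroup f2 ≤ Subgroup.centralizer {evW f2 Data.tWord} := by
    refine (Subgroup.closure_le _).2 ?_
    rintro _ ⟨l, hl, rfl⟩
    rw [SetLike.mem_coe, Subgroup.mem_centralizer_singleton_iff]
    simpa [evW_append] using eq_of_same (List.all_eq_true.1 h l hl)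
  exact Subgroup.mem_centralizer_singleton_iff.1 (hle hx)

theorem acts1 : ∀ l ∈ [4, 5, 6, 7], Acts (theta1 f2) (f2 l) (act1 l) := fun l hl i => by
  have h := eq_of_same (List.all_eq_true.1 (List.all_eq_true.1 act1_ok l hl) i (List.mem_finRange i))
  rw [evW_append, evW_append, evW_cons, evW_nil, mul_one] at h
  rw [theta1, theta1, h, mul_inv_cancel_right]

theorem acts2 : ∀ l ∈ [8, 9, 10, 11], Acts (theta2 f2) (f2 l) (act2 l) := fun l hl i => by
  have h := eq_of_same (List.all_eq_true.1 (List.all_eq_true.1 act2_ok l hl) i (List.mem_finRange i))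
  rw [evW_append, evW_append, evW_cons, evW_nil, mul_one] at h
  rw [theta2, theta2, h, mul_inv_cancel_right]

/-- The inverse of a word. -/
theorem evW_inv : ∀ {w : List ℕ}, (∀ l ∈ w, l < 20) →
    evW f2 (w.reverse.map invl) = (evW f2 w)⁻¹
  | [], _ => by simp
  | l :: w, h => by
    rw [List.reverse_cons, List.map_append, evW_append, evW_inv fun x hx => h x (List.mem_cons_of_mem l hx),
      List.map_singleton, evW_cons, evW_nil, mul_one, evW_cons, mul_inv_rev,
      eq_inv_of_mul_eq_one_left (f2_inv l (h l List.mem_cons_self))]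

/-- In the centraliser the second involution is centralised by the 192 elements only. -/
theorem cent_a (hcard : Nat.card (cGroup f2) = 40320) {c : H} (hc : c ∈ cGroup f2)
    (hca : c * evW f2 Data.aWord = evW f2 Data.aWord * c) :
    ∃ i, i < 192 ∧ c = evW f2 (word i) := by
  classical
  set a : H := evW f2 Data.aWord with ha
  let S : Subgroup (cGroup f2) := (Subgroup.centralizer {a}).subgroupOf (cGroup f2)
  have hlen : orbWords.length = 210 := by decide +kernel
  have hlenc : orbCodes.length = 210 := by decide +kernel
  have horb : ∀ k : Fin 210, evW f2 (orbWords.getD k.val []) ∈ cGroup f2 := fun k => by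
    refine evW_mem fun l hl => ?_
    have h := List.all_eq_true.1 (List.all_eq_true.1 orb_letters (orbWords.getD k.val [])
      (by rw [List.getD_eq_getElem _ _ (by omega)]; exact List.getElem_mem _)) l hl
    rw [Nat.blt_eq] at h
    exact ⟨by omega, by omega, by omega⟩
  let q : Fin 210 → cGroup f2 ⧸ S := fun k =>
    QuotientGroup.mk ⟨evW f2 (orbWords.getD k.val []), horb k⟩
  have hy : ∀ k : Fin 210, Rep (orbCodes.getD k.val one)
      (evW f2 (orbWords.getD k.val []) * a * (evW f2 (orbWords.getD k.val []))⁻¹) := fun k => by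
    have key : ∀ n, n < 210 → Rep (orbCodes.getD n one)
        (evW f2 (orbWords.getD n []) * a * (evW f2 (orbWords.getD n []))⁻¹) := by
      intro n
      induction n using Nat.strong_induction_on with
      | _ n ih =>
        intro hn
        have h : orbTest n = true := by
          by_cases h0 : n < 70
          · exact List.all_eq_true.1 orb_ok0 _ (List.mem_range'_1.2 ⟨by omega, by omega⟩)
          by_cases h1 : n < 140
          · exact List.all_eq_true.1 orb_ok1 _ (List.mem_range'_1.2 ⟨by omega, by omega⟩)
          exact List.all_eq_true.1 orb_ok2 _ (List.mem_range'_1.2 ⟨by omega, by omega⟩)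
        unfold orbTest at h
        split at h
        · next e =>
          rw [e, evW_nil, one_mul, inv_one, mul_one, ← Nat.eq_of_beq_eq_true h]
          exact rep_wc _
        · next l w e =>
          simp only [Bool.and_eq_true, Nat.blt_eq, beq_iff_eq] at h
          obtain ⟨⟨⟨hlt, hw⟩, hl⟩, hc⟩ := h
          have hp := ih _ hlt (by omega)
          rw [hw] at hp
          have hr := rep_mul (rep_mul (rep_f2 l) hp) (rep_f2 (invl l))
          rw [Nat.eq_of_beq_eq_true hc] at hr
          rw [e, evW_cons]
          have hi : f2 (invl l) = (f2 l)⁻¹ := eq_inv_of_mul_eq_one_left (f2_inv l hl)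
          rw [hi] at hr
          convert hr using 1
          group
    exact key k.val k.isLt
  have hq : Function.Injective q := by
    intro i j e
    have he := QuotientGroup.eq.1 e
    rw [Subgroup.mem_subgroupOf, Subgroup.mem_centralizer_singleton_iff] at he
    simp only [Subgroup.coe_mul, Subgroup.coe_inv] at he
    have hyy : evW f2 (orbWords.getD i.val []) * a * (evW f2 (orbWords.getD i.val []))⁻¹ =
        evW f2 (orbWords.getD j.val []) * a * (evW f2 (orbWords.getD j.val []))⁻¹ := by
      generalize evW f2 (orbWords.getD i.val []) = x, evW f2 (orbWords.getD j.val []) = y at he ⊢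
      calc x * a * x⁻¹ = x * (a * (x⁻¹ * y)) * y⁻¹ := by group
        _ = x * (x⁻¹ * y * a) * y⁻¹ := by rw [he]
        _ = y * a * y⁻¹ := by group
    have h := rep_code (hy i) (hyy ▸ hy j)
    rw [List.getD_eq_getElem _ _ (by omega), List.getD_eq_getElem _ _ (by omega)] at h
    exact Fin.ext (orb_nodup.getElem_inj_iff.1 h)
  haveI : Finite (cGroup f2) := Nat.finite_of_card_ne_zero (by omega)
  have h210 : 210 ≤ S.index := by
    simpa [Subgroup.index] using Nat.card_le_card_of_injective q hq
  have hS : Nat.card S ≤ 192 := by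
    have h := Subgroup.card_mul_index S
    rw [hcard] at h
    by_contra hlt
    have : 193 * 210 ≤ Nat.card S * S.index := Nat.mul_le_mul (by omega) h210
    omega
  have hk : ∀ i : Fin 192, evW f2 (word i.val) ∈ cGroup f2 := fun i => evW_mem fun l hl => by
    have := word_lt i.val i.isLt l hl
    exact ⟨this.2, by omega, by omega⟩
  have hka : ∀ i : Fin 192, (⟨evW f2 (word i.val), hk i⟩ : cGroup f2) ∈ S := fun i => by
    rw [Subgroup.mem_subgroupOf, Subgroup.mem_centralizer_singleton_iff]
    have hdec : ∀ j, j < 192 → mulI j iA = mulI iA j := by decide +kernel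
    have e : evW f2 (word iA) = a := by
      rw [ha, ← (table.act_zero (w := Data.aWord) (by decide)).2,
        show act 0 Data.aWord = iA from by decide +kernel]
    show evW f2 (word i.val) * a = a * evW f2 (word i.val)
    rw [← e, ← (table.mulI_spec i.isLt (j := iA) (by decide)).2,
      ← (table.mulI_spec (i := iA) (by decide) i.isLt).2, hdec _ i.isLt]
  let e : Fin 192 → S := fun i => ⟨_, hka i⟩
  have hbij : Function.Bijective e := by
    refine (Nat.bijective_iff_injective_and_card e).2 ⟨fun i j h => Fin.ext ?_, ?_⟩
    · exact table.inj _ i.isLt _ j.isLt (congrArg (fun x : S => ((x : cGroup f2) : H)) h)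
    · refine le_antisymm ?_ (by simpa using hS)
      refine Nat.card_le_card_of_injective e fun i j h => Fin.ext ?_
      exact table.inj _ i.isLt _ j.isLt (congrArg (fun x : S => ((x : cGroup f2) : H)) h)
  have hcS : (⟨c, hc⟩ : cGroup f2) ∈ S := by
    rw [Subgroup.mem_subgroupOf, Subgroup.mem_centralizer_singleton_iff]
    exact hca
  obtain ⟨i, hi⟩ := hbij.2 ⟨_, hcS⟩
  exact ⟨i.val, i.isLt, (congrArg (fun x : S => ((x : cGroup f2) : H)) hi).symm⟩

end CfsgLib.McLUnique.LocalModel
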