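import Cfsg.Agent.Lib.McLUnique.ModelCodes

/-!
The relations among the centraliser letters used in the local step hold in the model.
-/

set_option autoImplicit false
set_option maxRecDepth 100000
set_option Elab.async false

namespace CfsgLib.McLUnique.LocalModel

open CfsgLib.Presented CfsgLib.Schur.MultiplierMcL ModelCodes

theorem cRels_ok0 : (((Data.cRels.drop 0).take 40).all fun w => same w []) = true := by decide +kernel

end CfsgLib.McLUnique.LocalModel
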