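import Cfsg.Agent.Lib.McLUnique.LocalRels_side1_ok0
import Cfsg.Agent.Lib.McLUnique.LocalRels_side1_ok1
import Cfsg.Agent.Lib.McLUnique.LocalRels_side1_ok2
import Cfsg.Agent.Lib.McLUnique.LocalRels_side1_ok3
import Cfsg.Agent.Lib.McLUnique.LocalRels_side2_ok0
import Cfsg.Agent.Lib.McLUnique.LocalRels_side2_ok1
import Cfsg.Agent.Lib.McLUnique.LocalRels_side2_ok2
import Cfsg.Agent.Lib.McLUnique.LocalRels_side2_ok3
import Cfsg.Agent.Lib.McLUnique.LocalRels_cRels_ok0
import Cfsg.Agent.Lib.McLUnique.LocalRels_cRels_ok1
import Cfsg.Agent.Lib.McLUnique.LocalRels_cRels_ok2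
import Cfsg.Agent.Lib.McLUnique.LocalRels_cRels_ok3

/-!
The relations among the centraliser letters used in the local step hold in the model.
-/

set_option autoImplicit false
set_option maxRecDepth 100000
set_option Elab.async false

namespace CfsgLib.McLUnique.LocalModel

open CfsgLib.Presented CfsgLib.Schur.MultiplierMcL ModelCodes

theorem all_of_chunks {l : List (List ℕ)} {n : ℕ} {p : List ℕ → Bool} (h0 : ((l.drop 0).take n).all p = true)
    (h1 : ((l.drop n).take n).all p = true) (h2 : ((l.drop (2 * n)).take n).all p = true)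
    (h3 : (l.drop (3 * n)).all p = true) {w : List ℕ} (hw : w ∈ l) : p w = true := by
  have e : l = l.take n ++ ((l.drop n).take n ++ ((l.drop (2 * n)).take n ++ l.drop (3 * n))) := by
    rw [show 3 * n = 2 * n + n by omega, ← List.drop_drop, List.take_append_drop,
      show 2 * n = n + n by omega, ← List.drop_drop, List.take_append_drop, List.take_append_drop]
  rw [List.drop_zero] at h0
  rw [e] at hw
  simp only [List.mem_append] at hw
  rcases hw with hw | hw | hw | hw
  · exact List.all_eq_true.1 h0 w hw
  · exact List.all_eq_true.1 h1 w hw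
  · exact List.all_eq_true.1 h2 w hw
  · exact List.all_eq_true.1 h3 w hw

/-- All the relations of the hypothesis of the local step. -/
theorem base_rels : ∀ w ∈ Data.cRels ++ Data.sideRels1 ++ Data.sideRels2, evW f2 w = 1 := by
  intro w hw
  simp only [List.mem_append] at hw
  rcases hw with (hw | hw) | hw
  · exact eq_of_same (all_of_chunks (n := 40) cRels_ok0 cRels_ok1 cRels_ok2 cRels_ok3 hw)
  · exact eq_of_same (all_of_chunks (n := 60) side1_ok0 side1_ok1 side1_ok2 side1_ok3 hw)
  · exact eq_of_same (all_of_chunks (n := 60) side2_ok0 side2_ok1 side2_ok2 side2_ok3 hw)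

end CfsgLib.McLUnique.LocalModel
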