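import Cfsg.Agent.Lib.McLUnique.SideAct
import Cfsg.Agent.Lib.McLUnique.CertSide

/-!
McL from an involution centraliser: the extra relations of each side.

Such a word fixes the group of order 16 pointwise, so its value is listed; by enumeration it lies in
a complement, which meets the list trivially.
-/

set_option autoImplicit false
set_option maxRecDepth 100000

namespace CfsgLib.McLUnique.SideAct.Rot

open CfsgLib.Presented K0Rot Power

universe u

variable {G : Type u} [Group G] {f : ℕ → G}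

/-- **Side 1.**  The extra relations hold. -/
theorem ex1_eq_one (R : Rot f) (hinv : ∀ i, i < 20 → f (McLUnique.invl i) * f i = 1)
    (hS : SelfCentral (theta1 f)) (hC : ∀ l, l ∈ [4, 5, 6, 7] → Acts (theta1 f) (f l) (act1 l))
    (hrel : ∀ w ∈ Data.sideRels1 ++ Data.gRels ++ Data.pows1.map Data.powWord ++
      [Data.powWord Data.pin1], evW f w = 1)
    (hLA : ∀ i, theta1 f i ∈ Subgroup.closure {x | ∃ w ∈ Data.lWords1, evW f w = x} → i = 0) :
    ∀ r ∈ Data.ex1, evW f r = 1 := by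
  intro r hr
  have hc : ∀ q ∈ Data.ex1, (∀ l ∈ q, l ∈ [4, 5, 6, 7] ∨ (12 ≤ l ∧ l < 20)) ∧
      ∀ i, wordAct act1 q i = i := by decide +kernel
  obtain ⟨c1, c2⟩ := hc r hr
  obtain ⟨j, hj⟩ := hS.exists_eq_of_acts
    (acts_evW fun l hl => (c1 l hl).elim (hC l) fun h => R.acts1 l h.1 h.2) c2
  have hmem := CertSide.ex1_mem hinv hrel (Subgroup.closure {x | ∃ w ∈ Data.lWords1, evW f w = x})
    (fun w hw => Subgroup.subset_closure ⟨w, hw, rfl⟩) r hr
  rw [hj] at hmem
  rw [hj, hLA j hmem]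
  exact evW_nil f

/-- **Side 2.**  The extra relations hold. -/
theorem ex2_eq_one (R : Rot f) (hinv : ∀ i, i < 20 → f (McLUnique.invl i) * f i = 1)
    (hS : SelfCentral (theta2 f)) (hC : ∀ l, l ∈ [8, 9, 10, 11] → Acts (theta2 f) (f l) (act2 l))
    (hrel : ∀ w ∈ Data.sideRels2 ++ Data.gRels ++ Data.pows2.map Data.powWord ++
      [Data.powWord Data.pin2], evW f w = 1)
    (hLA : ∀ i, theta2 f i ∈ Subgroup.closure {x | ∃ w ∈ Data.lWords2, evW f w = x} → i = 0) :
    ∀ r ∈ Data.ex2, evW f r = 1 := by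
  intro r hr
  have hc : ∀ q ∈ Data.ex2, (∀ l ∈ q, l ∈ [8, 9, 10, 11] ∨ (12 ≤ l ∧ l < 20)) ∧
      ∀ i, wordAct act2 q i = i := by decide +kernel
  obtain ⟨c1, c2⟩ := hc r hr
  obtain ⟨j, hj⟩ := hS.exists_eq_of_acts
    (acts_evW fun l hl => (c1 l hl).elim (hC l) fun h => R.acts2 l h.1 h.2) c2
  have hmem := CertSide.ex2_mem hinv hrel (Subgroup.closure {x | ∃ w ∈ Data.lWords2, evW f w = x})
    (fun w hw => Subgroup.subset_closure ⟨w, hw, rfl⟩) r hr
  rw [hj] at hmem
  rw [hj, hLA j hmem]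
  exact evW_nil f

end CfsgLib.McLUnique.SideAct.Rot
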