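import Cfsg.Agent.Lib.McLUnique.SideAct

/-!
McL from an involution centraliser: replacing the rotation `g` by `g * t` keeps every hypothesis and
exchanges the two values of the first pin.
-/

set_option autoImplicit false

namespace CfsgLib.McLUnique.SideAct

open CfsgLib.Presented K0Rot Power

universe u

variable {G : Type u} [Group G]

/-- The assignment with `g` replaced by `g * t`. -/
def flip (f : ℕ → G) (l : ℕ) : G :=
  if l = 12 then f 12 * evW f Data.tWord else if l = 13 then (f 12 * evW f Data.tWord)⁻¹ else f l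

theorem flip_of_ne {f : ℕ → G} {l : ℕ} (h12 : l ≠ 12) (h13 : l ≠ 13) : flip f l = f l := by
  simp [flip, h12, h13]

theorem evW_flip {f : ℕ → G} {w : List ℕ} (hw : ∀ l ∈ w, l ≠ 12 ∧ l ≠ 13) :
    evW (flip f) w = evW f w := by
  refine congrArg List.prod (List.map_congr_left fun l hl => ?_)
  exact flip_of_ne (hw l hl).1 (hw l hl).2

theorem evW_flip_word {f : ℕ → G} {i : ℕ} (hi : i < 192) : evW (flip f) (word i) = evW f (word i) :=
  evW_flip fun l hl => by
    have := word_lt i hi l hl
    omega

theorem table_flip {f : ℕ → G} (T : Table f) : Table (flip f) where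
  inv i h14 h20 := by
    have := Table.invl_range i h14 h20
    rw [flip_of_ne (by omega) (by omega), flip_of_ne (by omega) (by omega)]
    exact T.inv i h14 h20
  stepEq i hi l h14 h20 := by
    rw [evW_flip_word hi, evW_flip_word (step_lt i hi l h20), flip_of_ne (by omega) (by omega)]
    exact T.stepEq i hi l h14 h20
  inj i hi j hj h := T.inj i hi j hj (by rwa [evW_flip_word hi, evW_flip_word hj] at h)

namespace Rot

variable {f : ℕ → G}

theorem t_eq (R : Rot f) : evW f (word iT) = evW f Data.tWord := by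
  rw [← (R.table.act_zero (w := Data.tWord) (by decide)).2,
    show act 0 Data.tWord = iT from by decide +kernel]

theorem a_eq (R : Rot f) : evW f (word iA) = evW f Data.aWord := by
  rw [← (R.table.act_zero (w := Data.aWord) (by decide)).2,
    show act 0 Data.aWord = iA from by decide +kernel]

/-- The rotation moves `t` to `a`. -/
theorem rot_t (R : Rot f) : f 12 * evW f Data.tWord * (f 12)⁻¹ = evW f Data.aWord := by
  rw [← R.t_eq, ← R.a_eq, ← (R.rot_spec (i := iT) (by decide)).2,
    show rotI iT = iA from by decide +kernel]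

/-- The rotation moves `a` to `t * a`. -/
theorem rot_a (R : Rot f) : f 12 * evW f Data.aWord * (f 12)⁻¹ =
    evW f Data.tWord * evW f Data.aWord := by
  rw [← R.t_eq, ← R.a_eq, ← (R.rot_spec (i := iA) (by decide)).2,
    ← (R.table.mulI_spec (i := iT) (j := iA) (by decide) (by decide)).2,
    show rotI iA = mulI iT iA from by decide +kernel]

theorem t_mul_t (R : Rot f) : evW f Data.tWord * evW f Data.tWord = 1 := by
  rw [← R.t_eq, ← (R.table.mulI_spec (i := iT) (j := iT) (by decide) (by decide)).2,
    show mulI iT iT = 0 from by decide +kernel]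
  rfl

theorem a_ta_t (R : Rot f) :
    evW f Data.aWord * (evW f Data.tWord * evW f Data.aWord) * evW f Data.tWord = 1 := by
  have h1 := R.table.mulI_spec (i := iT) (j := iA) (by decide) (by decide)
  have h2 := R.table.mulI_spec (i := iA) (by decide) h1.1
  have h3 := R.table.mulI_spec (j := iT) h2.1 (by decide)
  have e := h3.2
  rw [h2.2, h1.2, R.t_eq, R.a_eq] at e
  rw [← e, show mulI (mulI iA (mulI iT iA)) iT = 0 from by decide +kernel]
  rfl

/-- The flipped assignment satisfies the same hypotheses. -/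
theorem flip (R : Rot f) : Rot (SideAct.flip f) := by
  have hcomm : ∀ l, 14 ≤ l → l < 20 → evW f Data.tWord * f l = f l * evW f Data.tWord := by
    intro l h14 h20
    have hl : ∀ a ∈ [l], 14 ≤ a ∧ a < 20 := by simp [h14, h20]
    obtain ⟨h5, h6⟩ := R.table.act_zero hl
    rw [evW_cons, evW_nil, mul_one] at h6
    rw [← R.t_eq, ← h6, ← (R.table.mulI_spec (i := iT) (by decide) h5).2,
      ← (R.table.mulI_spec (j := iT) h5 (by decide)).2]
    have hc : ∀ m, m < 20 → 14 ≤ m → mulI iT (act 0 [m]) = mulI (act 0 [m]) iT := by decide +kernel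
    rw [hc l h20 h14]
  have key : ∀ l b, 14 ≤ l → l < 20 → b < 192 → f 12 * f l * (f 12)⁻¹ = evW f (word b) →
      SideAct.flip f 12 * SideAct.flip f l * (SideAct.flip f 12)⁻¹ =
        evW (SideAct.flip f) (word b) := by
    intro l b h14 h20 hb h
    rw [flip_of_ne (l := l) (by omega) (by omega), evW_flip_word hb, ← h]
    show f 12 * evW f Data.tWord * f l * (f 12 * evW f Data.tWord)⁻¹ = _
    rw [mul_assoc (f 12) (evW f Data.tWord) (f l), hcomm l h14 h20]
    group
  exact ⟨table_flip R.table, rfl, key 14 b14 le_rfl (by norm_num) (by decide) R.r14,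
    key 16 b16 (by norm_num) (by norm_num) (by decide) R.r16,
    key 18 b18 (by norm_num) (by norm_num) (by decide) R.r18⟩

/-- The flipped rotation still has cube `1`. -/
theorem flip_cube (R : Rot f) (h3 : f 12 * f 12 * f 12 = 1) :
    SideAct.flip f 12 * SideAct.flip f 12 * SideAct.flip f 12 = 1 := by
  show f 12 * evW f Data.tWord * (f 12 * evW f Data.tWord) * (f 12 * evW f Data.tWord) = 1
  calc f 12 * evW f Data.tWord * (f 12 * evW f Data.tWord) * (f 12 * evW f Data.tWord)
      = f 12 * evW f Data.tWord * (f 12)⁻¹ *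
          (f 12 * (f 12 * evW f Data.tWord * (f 12)⁻¹) * (f 12)⁻¹) *
            (f 12 * f 12 * f 12) * evW f Data.tWord := by group
    _ = 1 := by rw [h3, mul_one, R.rot_t, R.rot_a, R.a_ta_t]

/-- The flip multiplies the first pin by its fixed element. -/
theorem pin1_flip (R : Rot f) (hC : ∀ l, l ∈ [4, 5, 6, 7] → Acts (theta1 f) (f l) (act1 l)) :
    evW (SideAct.flip f) (Data.powWord Data.pin1) =
      evW f Data.pinFix1 * evW f (Data.powWord Data.pin1) := by
  have hA : Acts (theta1 f) (evW f Data.pin1.1) (wordAct act1 Data.pin1.1) := by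
    have hw : ∀ l ∈ Data.pin1.1, l ∈ [4, 5, 6, 7] ∨ (12 ≤ l ∧ l < 20) := by decide
    exact acts_evW fun l hl => (hw l hl).elim (hC l) fun h => R.acts1 l h.1 h.2
  have h13 : theta1 f 13 = evW f Data.aWord := congrArg (evW f) (by decide)
  have hx : evW (SideAct.flip f) Data.pin1.1 = evW f Data.pin1.1 * theta1 f 13 := by
    rw [h13, ← R.rot_t]
    simp only [Data.pin1, evW_cons, evW_nil, mul_one, R.h13,
      flip_of_ne (f := f) (l := 4) (by norm_num) (by norm_num),
      flip_of_ne (f := f) (l := 15) (by norm_num) (by norm_num),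
      show SideAct.flip f 13 = (f 12 * evW f Data.tWord)⁻¹ from rfl]
    have ht : (evW f Data.tWord)⁻¹ = evW f Data.tWord := inv_eq_of_mul_eq_one_right R.t_mul_t
    rw [mul_inv_rev, ht]
    group
  -- the product of the four conjugates
  have hw : Data.powWord Data.pin1 = wpow Data.pin1.1 Data.pin1.2 := rfl
  rw [hw, evW_wpow, evW_wpow, hx, show Data.pin1.2 = 4 from rfl]
  generalize hxd : evW f Data.pin1.1 = x at hA
  set σ := wordAct act1 Data.pin1.1 with hσ
  have e : (x * theta1 f 13) ^ 4 = theta1 f (σ 13) * theta1 f (σ (σ 13)) *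
      theta1 f (σ (σ (σ 13))) * theta1 f (σ (σ (σ (σ 13)))) * x ^ 4 := by
    rw [← hA (σ (σ (σ 13))), ← hA (σ (σ 13)), ← hA (σ 13), ← hA 13]
    simp only [pow_succ, pow_zero, one_mul]
    group
  rw [e, (R.theta1_idx _).2, (R.theta1_idx _).2, (R.theta1_idx _).2, (R.theta1_idx _).2]
  obtain ⟨a1, a2⟩ := R.table.mulI_spec (R.theta1_idx (σ 13)).1 (R.theta1_idx (σ (σ 13))).1
  obtain ⟨a3, a4⟩ := R.table.mulI_spec a1 (R.theta1_idx (σ (σ (σ 13)))).1
  obtain ⟨a5, a6⟩ := R.table.mulI_spec a3 (R.theta1_idx (σ (σ (σ (σ 13))))).1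
  rw [← a2, ← a4, ← a6, ← (R.table.act_zero (w := Data.pinFix1) (by decide)).2, hσ,
    show mulI (mulI (mulI (aIdx1.getD (wordAct act1 Data.pin1.1 13).val 0)
        (aIdx1.getD (wordAct act1 Data.pin1.1 (wordAct act1 Data.pin1.1 13)).val 0))
        (aIdx1.getD (wordAct act1 Data.pin1.1
          (wordAct act1 Data.pin1.1 (wordAct act1 Data.pin1.1 13))).val 0))
        (aIdx1.getD (wordAct act1 Data.pin1.1 (wordAct act1 Data.pin1.1
          (wordAct act1 Data.pin1.1 (wordAct act1 Data.pin1.1 13)))).val 0) =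
      act 0 Data.pinFix1 from by decide +kernel]

end Rot

end CfsgLib.McLUnique.SideAct
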