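import Cfsg.Agent.Lib.McLUnique.LocalModel
import Cfsg.Agent.Lib.McLUnique.LocalComp
import Cfsg.Agent.Lib.McLUnique.SideFlip
import Cfsg.Agent.Lib.McLUnique.SideEx
import Cfsg.Agent.Lib.McLUnique.CertBad

/-!
McL from an involution centraliser: the local step.

From an embedding of the centraliser in the model onto the centraliser of `t` and an element cycling
`t`, `a`, `t * a` by conjugation, an assignment of the twenty letters satisfying the relations of McL.
-/

set_option autoImplicit false
set_option maxRecDepth 100000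

namespace CfsgLib.McLUnique.LocalTop

open Subgroup CfsgLib.Presented CfsgLib.Schur.MultiplierMcL ModelCodes LocalModel K0Rot SideAct Power

universe u

variable {G : Type u} [Group G]

/-- The assignment given by the embedding and an element for the letter 12. -/
noncomputable def mk (φ : cGroup f2 →* G) (x : G) (l : ℕ) : G :=
  if h : IsC l then φ ⟨f2 l, f2_mem h⟩ else if l = 12 then x else if l = 13 then x⁻¹ else 1

variable {φ : cGroup f2 →* G} {x : G}

theorem mk12 : mk φ x 12 = x := by
  rw [mk, dif_neg (fun h => h.2.1 rfl), if_pos rfl]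

theorem mk13 : mk φ x 13 = x⁻¹ := by
  rw [mk, dif_neg (fun h => h.2.2 rfl), if_neg (by decide), if_pos rfl]

theorem mk_c {l : ℕ} (h : IsC l) : mk φ x l = φ ⟨f2 l, f2_mem h⟩ := dif_pos h

theorem evW_mk : ∀ {w : List ℕ} (h : ∀ l ∈ w, IsC l),
    evW (mk φ x) w = φ ⟨evW f2 w, evW_mem h⟩
  | [], h => by
    rw [evW_nil, ← map_one φ]
    rfl
  | l :: w, h => by
    rw [evW_cons, mk_c (h l List.mem_cons_self),
      evW_mk fun a ha => h a (List.mem_cons_of_mem l ha), ← map_mul]
    exact congrArg φ (Subtype.ext (evW_cons f2 l w).symm)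

theorem evW_mk_eq {y : G} {w : List ℕ} (h : ∀ l ∈ w, IsC l) :
    evW (mk φ x) w = evW (mk φ y) w := by rw [evW_mk h, evW_mk h]

/-- An identity of centraliser words in the model holds in `G`. -/
theorem transfer {u v : List ℕ} (hu : ∀ l ∈ u, IsC l) (hv : ∀ l ∈ v, IsC l)
    (e : evW f2 u = evW f2 v) : evW (mk φ x) u = evW (mk φ x) v := by
  rw [evW_mk hu, evW_mk hv]
  exact congrArg φ (Subtype.ext e)

theorem isC_word {i : ℕ} (hi : i < 192) : ∀ l ∈ word i, IsC l := fun l hl =>
  have h := word_lt i hi l hl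
  ⟨h.2, by omega, by omega⟩

theorem mk_inv (i : ℕ) (hi : i < 20) : mk φ x (invl i) * mk φ x i = 1 := by
  by_cases h : IsC i
  · have hinv : IsC (invl i) := by
      have : ∀ k < 20, IsC k → IsC (invl k) := by decide +kernel
      exact this i hi h
    have e := transfer (φ := φ) (x := x) (u := [invl i, i]) (v := []) (by simp [h, hinv]) (by simp)
      (by simpa using f2_inv i hi)
    simpa using e
  · have : i = 12 ∨ i = 13 := by
      by_contra hne
      push Not at hne
      exact h ⟨hi, hne.1, hne.2⟩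
    rcases this with rfl | rfl
    · rw [show invl 12 = 13 from rfl, mk13, mk12, inv_mul_cancel]
    · rw [show invl 13 = 12 from rfl, mk13, mk12, mul_inv_cancel]

theorem mk_table (hinj : Function.Injective φ) : Table (mk φ x) where
  inv i _ h20 := mk_inv i h20
  stepEq i hi l h14 h20 := by
    have hl : ∀ a ∈ word i ++ [l], IsC a := by
      intro a ha
      rcases List.mem_append.1 ha with ha | ha
      · exact isC_word hi a ha
      · rw [List.mem_singleton.1 ha]
        exact ⟨h20, by omega, by omega⟩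
    have e := transfer (φ := φ) (x := x) hl (isC_word (step_lt i hi l h20))
      (by simpa [evW_append] using table.stepEq i hi l h14 h20)
    simpa [evW_append] using e
  inj i hi j hj e := by
    rw [evW_mk (isC_word hi), evW_mk (isC_word hj)] at e
    exact table.inj i hi j hj (congrArg Subtype.val (hinj e))

theorem isC_aWords1 (i : Fin 16) : ∀ l ∈ Data.aWords1.getD i.val [], IsC l := by
  have h : ∀ j : Fin 16, ∀ l ∈ Data.aWords1.getD j.val [], IsC l := by decide +kernel
  exact h i

theorem isC_aWords2 (i : Fin 16) : ∀ l ∈ Data.aWords2.getD i.val [], IsC l := by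
  have h : ∀ j : Fin 16, ∀ l ∈ Data.aWords2.getD j.val [], IsC l := by decide +kernel
  exact h i

theorem isC_tWord : ∀ l ∈ Data.tWord, IsC l := by decide +kernel

theorem isC_aWord : ∀ l ∈ Data.aWord, IsC l := by decide +kernel

theorem mk_acts1 : ∀ l ∈ [4, 5, 6, 7], Acts (theta1 (mk φ x)) (mk φ x l) (act1 l) := by
  intro l hl i
  have hc : IsC l := by
    have : ∀ k ∈ [4, 5, 6, 7], IsC k := by decide
    exact this l hl
  have e := LocalModel.acts1 l hl i
  rw [theta1, theta1, mul_inv_eq_iff_eq_mul] at e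
  have := transfer (φ := φ) (x := x) (u := l :: Data.aWords1.getD i.val [])
    (v := Data.aWords1.getD (act1 l i).val [] ++ [l])
    (List.forall_mem_cons.2 ⟨hc, isC_aWords1 i⟩)
    (fun a ha => (List.mem_append.1 ha).elim (isC_aWords1 _ a) fun h => List.mem_singleton.1 h ▸ hc)
    (by simpa [evW_append] using e)
  rw [theta1, theta1, mul_inv_eq_iff_eq_mul]
  simpa [evW_append] using this

theorem mk_acts2 : ∀ l ∈ [8, 9, 10, 11], Acts (theta2 (mk φ x)) (mk φ x l) (act2 l) := by
  intro l hl i
  have hc : IsC l := by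
    have : ∀ k ∈ [8, 9, 10, 11], IsC k := by decide
    exact this l hl
  have e := LocalModel.acts2 l hl i
  rw [theta2, theta2, mul_inv_eq_iff_eq_mul] at e
  have := transfer (φ := φ) (x := x) (u := l :: Data.aWords2.getD i.val [])
    (v := Data.aWords2.getD (act2 l i).val [] ++ [l])
    (List.forall_mem_cons.2 ⟨hc, isC_aWords2 i⟩)
    (fun a ha => (List.mem_append.1 ha).elim (isC_aWords2 _ a) fun h => List.mem_singleton.1 h ▸ hc)
    (by simpa [evW_append] using e)
  rw [theta2, theta2, mul_inv_eq_iff_eq_mul]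
  simpa [evW_append] using this

section

variable (hcard : Nat.card (cGroup f2) = 40320) (hinj : Function.Injective φ) {t : G}
  (hrange : φ.range = centralizer ({t} : Set G))
  (hφt : φ ⟨evW f2 Data.tWord, evW_mem isC_tWord⟩ = t)

include hcard hinj hrange hφt

/-- What centralises the four-group lies in the table. -/
theorem exists_word {y : G} (hy1 : y * t = t * y)
    (hy2 : y * evW (mk φ x) Data.aWord = evW (mk φ x) Data.aWord * y) :
    ∃ i, i < 192 ∧ y = evW (mk φ x) (word i) := by
  obtain ⟨c, rfl⟩ : y ∈ φ.range := by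
    rw [hrange]
    exact mem_centralizer_singleton_iff.2 hy1
  rw [evW_mk isC_aWord, ← map_mul, ← map_mul] at hy2
  obtain ⟨i, hi, e⟩ := cent_a hcard c.2 (congrArg Subtype.val (hinj hy2))
  exact ⟨i, hi, by rw [evW_mk (isC_word hi)]; exact congrArg φ (Subtype.ext e)⟩

theorem selfCentral_aux (aw : List (List ℕ)) (idx : List ℕ) (hC : ∀ i : Fin 16, ∀ l ∈ aw.getD i.val [], IsC l)
    (hidx : ∀ i : Fin 16, idx.getD i.val 0 < 192 ∧ (∀ l ∈ aw.getD i.val [], 14 ≤ l ∧ l < 20) ∧
      act 0 (aw.getD i.val []) = idx.getD i.val 0)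
    (hnd : ∀ i j : Fin 16, idx.getD i.val 0 = idx.getD j.val 0 → i = j)
    (ht : ∃ i : Fin 16, idx.getD i.val 0 = iT) (ha : ∃ i : Fin 16, idx.getD i.val 0 = iA)
    (hself : ∀ i, i < 192 → (∀ j : Fin 16, mulI i (idx.getD j.val 0) = mulI (idx.getD j.val 0) i) →
      ∃ j : Fin 16, idx.getD j.val 0 = i) :
    SelfCentral fun i : Fin 16 => evW (mk φ x) (aw.getD i.val []) := by
  have hv : ∀ i : Fin 16, evW f2 (aw.getD i.val []) = evW f2 (word (idx.getD i.val 0)) := fun i => by
    rw [← (hidx i).2.2, (table.act_zero (hidx i).2.1).2]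
  obtain ⟨i₀, hi₀⟩ := ht
  obtain ⟨i₁, hi₁⟩ := ha
  let θ₀ : Fin 16 → cGroup f2 := fun i => ⟨evW f2 (aw.getD i.val []), evW_mem (hC i)⟩
  have key := selfCentral_of_hom φ hinj hrange (θ₀ := θ₀)
    (fun i j e => hnd i j (table.inj _ (hidx i).1 _ (hidx j).1 (by
      rw [← hv, ← hv]; exact congrArg Subtype.val e))) (i₀ := i₀) ?_ ?_
  · convert key using 1
    funext i
    exact evW_mk (hC i)
  · rw [← hφt]
    refine congrArg φ (Subtype.ext ?_)
    show evW f2 (aw.getD i₀.val []) = evW f2 Data.tWord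
    rw [hv, hi₀, ← (table.act_zero (w := Data.tWord) (by decide)).2,
      show act 0 Data.tWord = iT from by decide +kernel]
  · intro c hc
    have hca : (c : H) * evW f2 Data.aWord = evW f2 Data.aWord * c := by
      have e := congrArg Subtype.val (hc i₁)
      change (c : H) * evW f2 (aw.getD i₁.val []) = evW f2 (aw.getD i₁.val []) * c at e
      rwa [hv, hi₁, show evW f2 (word iA) = evW f2 Data.aWord from by
        rw [← (table.act_zero (w := Data.aWord) (by decide)).2,
          show act 0 Data.aWord = iA from by decide +kernel]] at e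
    obtain ⟨i, hi, e⟩ := cent_a hcard c.2 hca
    obtain ⟨j, hj⟩ := hself i hi fun j => by
      have e2 := congrArg Subtype.val (hc j)
      change (c : H) * evW f2 (aw.getD j.val []) = evW f2 (aw.getD j.val []) * c at e2
      rw [hv, e, ← (table.mulI_spec hi (hidx j).1).2, ← (table.mulI_spec (hidx j).1 hi).2] at e2
      exact table.inj _ (table.mulI_spec hi (hidx j).1).1 _ (table.mulI_spec (hidx j).1 hi).1 e2
    exact ⟨j, Subtype.ext (by show (c : H) = evW f2 _; rw [hv, hj, e])⟩

theorem selfCentral1 : SelfCentral (theta1 (mk φ x)) :=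
  selfCentral_aux hcard hinj hrange hφt Data.aWords1 aIdx1 isC_aWords1 (by decide +kernel)
    (by decide +kernel) (by decide +kernel) (by decide +kernel) (by decide +kernel)

theorem selfCentral2 : SelfCentral (theta2 (mk φ x)) :=
  selfCentral_aux hcard hinj hrange hφt Data.aWords2 aIdx2 isC_aWords2 (by decide +kernel)
    (by decide +kernel) (by decide +kernel) (by decide +kernel) (by decide +kernel)

end

/-- The complement meets the group of order 16 only in the identity. -/
theorem mk_meet (hinj : Function.Injective φ) (aw : List (List ℕ)) (lw : List (List ℕ))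
    (hC : ∀ i : Fin 16, ∀ l ∈ aw.getD i.val [], IsC l) (hL : ∀ w ∈ lw, ∀ l ∈ w, IsC l)
    (hmeet : ∀ i : Fin 16, evW f2 (aw.getD i.val []) ∈
      Subgroup.closure {y : H | ∃ w ∈ lw, evW f2 w = y} → i.val = 0) (i : Fin 16)
    (hi : evW (mk φ x) (aw.getD i.val []) ∈
      Subgroup.closure {y : G | ∃ w ∈ lw, evW (mk φ x) w = y}) : i = 0 := by
  refine Fin.ext (hmeet i ?_)
  have hle : Subgroup.closure {y : G | ∃ w ∈ lw, evW (mk φ x) w = y} ≤
      ((Subgroup.closure {y : H | ∃ w ∈ lw, evW f2 w = y}).subgroupOf (cGroup f2)).map φ := by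
    refine (Subgroup.closure_le _).2 ?_
    rintro _ ⟨w, hw, rfl⟩
    refine ⟨⟨evW f2 w, evW_mem (hL w hw)⟩, ?_, (evW_mk (hL w hw)).symm⟩
    exact Subgroup.mem_subgroupOf.2 (Subgroup.subset_closure ⟨w, hw, rfl⟩)
  obtain ⟨c, hc, e⟩ := hle hi
  rw [evW_mk (hC i)] at e
  have e' := congrArg Subtype.val (hinj e)
  change (c : H) = evW f2 (aw.getD i.val []) at e'
  exact e' ▸ hc

/-- The relations between the centraliser letters hold in `G`. -/
theorem mk_rels (hsat : ∀ w ∈ Data.cRels ++ Data.sideRels1 ++ Data.sideRels2, evW f2 w = 1) :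
    ∀ w ∈ Data.cRels ++ Data.sideRels1 ++ Data.sideRels2, evW (mk φ x) w = 1 := by
  have h : ∀ w ∈ Data.cRels ++ Data.sideRels1 ++ Data.sideRels2, ∀ l ∈ w, IsC l := by decide +kernel
  intro w hw
  simpa using transfer (φ := φ) (x := x) (h w hw) (v := []) (by simp) (by simpa using hsat w hw)

/-- **The local step.** -/
theorem hlocal (hcard : Nat.card (cGroup f2) = 40320)
    (hsat : ∀ w ∈ Data.cRels ++ Data.sideRels1 ++ Data.sideRels2, evW f2 w = 1)
    (φ : cGroup f2 →* G) (hinj : Function.Injective φ) {t : G}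
    (hrange : φ.range = centralizer ({t} : Set G))
    (ht₀ : evW f2 Data.tWord ∈ cGroup f2) (hφt : φ ⟨evW f2 Data.tWord, ht₀⟩ = t)
    (ha₀ : evW f2 Data.aWord ∈ cGroup f2) (g : G)
    (h1 : g * t * g⁻¹ = φ ⟨evW f2 Data.aWord, ha₀⟩)
    (h2 : g * φ ⟨evW f2 Data.aWord, ha₀⟩ * g⁻¹ = t * φ ⟨evW f2 Data.aWord, ha₀⟩) :
    ∃ f : ℕ → G, Sat Data.rels f ∧
      (∀ (i : ℕ) (hi : i ∈ cLetters), f i = φ ⟨f2 i, subset_closure ⟨i, hi, rfl⟩⟩) ∧
      f 12 ∉ cGroup f := by
  set a := φ ⟨evW f2 Data.aWord, ha₀⟩ with ha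
  have eT : ∀ y, evW (mk φ y) Data.tWord = t := fun y => by rw [evW_mk isC_tWord]; exact hφt
  have eA : ∀ y, evW (mk φ y) Data.aWord = a := fun y => by rw [evW_mk isC_aWord]
  have T : ∀ y, Table (mk φ y) := fun y => mk_table hinj
  have wT : ∀ y, evW (mk φ y) (word iT) = t := fun y => by
    rw [← eT y, ← ((T y).act_zero (w := Data.tWord) (by decide)).2,
      show act 0 Data.tWord = iT from by decide +kernel]
  have wA : ∀ y, evW (mk φ y) (word iA) = a := fun y => by
    rw [← eA y, ← ((T y).act_zero (w := Data.aWord) (by decide)).2,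
      show act 0 Data.aWord = iA from by decide +kernel]
  have hmul : ∀ i j k, i < 192 → j < 192 → mulI i j = k →
      evW (mk φ g) (word i) * evW (mk φ g) (word j) = evW (mk φ g) (word k) := fun i j k hi hj e => by
    rw [← ((T g).mulI_spec hi hj).2, e]
  have hta : t * a = a * t := by
    rw [← wT g, ← wA g, hmul iT iA (mulI iT iA) (by decide) (by decide) rfl,
      hmul iA iT (mulI iT iA) (by decide) (by decide) (by decide +kernel)]
  have hat : a ≠ t := fun e => by
    rw [← wA g, ← wT g] at e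
    exact absurd ((T g).inj _ (by decide) _ (by decide) e) (by decide)
  have haa : a * a = 1 := by
    rw [← wA g, hmul iA iA 0 (by decide) (by decide) (by decide +kernel)]
    rfl
  -- an element preserving `t` and `a` lies in the table
  have hK : ∀ y z : G, z * t = t * z → z * a = a * z →
      ∃ i, i < 192 ∧ z = evW (mk φ y) (word i) := fun y z e1 e2 =>
    exists_word hcard hinj hrange hφt e1 (by rw [eA]; exact e2)
  -- conjugation by an element cycling the four-group keeps the table
  have hcyc : ∀ z : G, z * t * z⁻¹ = a → z * a * z⁻¹ = t * a →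
      (∀ y : G, y * t = t * y → y * a = a * y →
        z * y * z⁻¹ * t = t * (z * y * z⁻¹) ∧ z * y * z⁻¹ * a = a * (z * y * z⁻¹)) ∧
      (z * z * z * t = t * (z * z * z) ∧ z * z * z * a = a * (z * z * z)) := by
    intro z e1 e2
    have e3 : z * (t * a) * z⁻¹ = t := by
      rw [show z * (t * a) * z⁻¹ = z * t * z⁻¹ * (z * a * z⁻¹) by group, e1, e2, hta, ← mul_assoc,
        haa, one_mul]
    have ea : ∀ y w v : G, z * w * z⁻¹ = v → y * w = w * y → z * y * z⁻¹ * v = v * (z * y * z⁻¹) :=
      fun y w v e h => by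
        rw [← e, show z * y * z⁻¹ * (z * w * z⁻¹) = z * (y * w) * z⁻¹ by group, h]
        group
    refine ⟨fun y h3 h4 => ⟨ea y _ _ e3 (by rw [← mul_assoc, h3, mul_assoc, h4, mul_assoc]),
      ea y _ _ e1 h3⟩, ?_, ?_⟩
    · refine mul_inv_eq_iff_eq_mul.1 ?_
      rw [show z * z * z * t * (z * z * z)⁻¹ = z * (z * (z * t * z⁻¹) * z⁻¹) * z⁻¹ by group,
        e1, e2, e3]
    · refine mul_inv_eq_iff_eq_mul.1 ?_
      rw [show z * z * z * a * (z * z * z)⁻¹ = z * (z * (z * a * z⁻¹) * z⁻¹) * z⁻¹ by group,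
        e2, e3, e1]
  -- correct the element to the model rotation
  obtain ⟨k, hk, hr⟩ := (T g).exists_rotation g
    (fun l hl => by
      have hlc : IsC l ∧ 14 ≤ l ∧ l < 20 := by
        have : ∀ m ∈ [14, 16, 18], IsC m ∧ 14 ≤ m ∧ m < 20 := by decide
        exact this l hl
      have hc : evW (mk φ g) [l] * t = t * evW (mk φ g) [l] ∧
          evW (mk φ g) [l] * a = a * evW (mk φ g) [l] := by
        have hl' : ∀ b ∈ [l], 14 ≤ b ∧ b < 20 := by simp [hlc.2.1, hlc.2.2]
        obtain ⟨b1, b2⟩ := (T g).act_zero hl'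
        have hd : ∀ m, m < 20 → 14 ≤ m → mulI (act 0 [m]) iT = mulI iT (act 0 [m]) ∧
            mulI (act 0 [m]) iA = mulI iA (act 0 [m]) := by decide +kernel
        obtain ⟨d1, d2⟩ := hd l hlc.2.2 hlc.2.1
        rw [← b2, ← wT g, ← wA g]
        exact ⟨(hmul _ _ _ b1 (by decide) d1).trans (hmul _ _ _ (by decide) b1 rfl).symm,
          (hmul _ _ _ b1 (by decide) d2).trans (hmul _ _ _ (by decide) b1 rfl).symm⟩
      rw [evW_cons, evW_nil, mul_one] at hc
      obtain ⟨c1, c2⟩ := (hcyc g h1 h2).1 _ hc.1 hc.2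
      exact hK g _ c1 c2)
    (by rw [eT, eA]; exact h1) (by rw [eT, eA]; exact h2)
    (by rw [pow_succ, pow_two]; exact hK g _ (hcyc g h1 h2).2.1 (hcyc g h1 h2).2.2)
  set g1 := (evW (mk φ g) (word k))⁻¹ * g with hg1
  have hb : ∀ b, b < 192 → evW (mk φ g) (word b) = evW (mk φ g1) (word b) := fun b hb =>
    evW_mk_eq (isC_word hb)
  have R : Rot (mk φ g1) := by
    obtain ⟨r1, r2, r3⟩ := hr
    have hl : ∀ l b, IsC l → b < 192 → g1 * mk φ g l * g1⁻¹ = evW (mk φ g) (word b) →
        mk φ g1 12 * mk φ g1 l * (mk φ g1 12)⁻¹ = evW (mk φ g1) (word b) := fun l b hl hb' e => by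
      rw [mk12, mk_c hl, ← hb b hb', ← e, mk_c hl]
    exact ⟨T g1, by rw [mk13, mk12], hl 14 b14 (by decide) (by decide) r1,
      hl 16 b16 (by decide) (by decide) r2, hl 18 b18 (by decide) (by decide) r3⟩
  have e1 : g1 * t * g1⁻¹ = a := by
    have := R.rot_t; rwa [mk12, eT, eA] at this
  have e2 : g1 * a * g1⁻¹ = t * a := by
    have := R.rot_a; rwa [mk12, eT, eA] at this
  have hcube : g1 * g1 * g1 = 1 := by
    obtain ⟨m, hm, em⟩ := hK g1 _ (hcyc g1 e1 e2).2.1 (hcyc g1 e1 e2).2.2
    have hfix : evW (mk φ g1) (word (rotI m)) = evW (mk φ g1) (word m) := by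
      rw [(R.rot_spec hm).2, mk12, ← em]; group
    have h3 : ∀ i, i < 192 → mulI m i = mulI i m := by
      intro i hi
      obtain ⟨b1, b2⟩ := R.rot_spec hi
      obtain ⟨c1, c2⟩ := R.rot_spec b1
      obtain ⟨d1, d2⟩ := R.rot_spec c1
      rw [mk12] at b2 c2 d2
      have hid : ∀ j, j < 192 → rotI (rotI (rotI j)) = j := by decide +kernel
      rw [c2, b2, hid i hi] at d2
      apply (T g1).inj _ ((T g1).mulI_spec hm hi).1 _ ((T g1).mulI_spec hi hm).1
      rw [((T g1).mulI_spec hm hi).2, ((T g1).mulI_spec hi hm).2, ← em]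
      refine mul_inv_eq_iff_eq_mul.1 ?_
      conv_rhs => rw [d2]
      group
    have hd : ∀ j, j < 192 → rotI j = j → (∀ l ∈ [14, 16, 18], mulI j (act 0 [l]) = mulI (act 0 [l]) j) →
        j = 0 := by decide +kernel
    have hl0 : ∀ l ∈ [14, 16, 18], act 0 [l] < 192 := by decide
    rw [em, hd m hm ((T g1).inj _ (R.rot_spec hm).1 _ hm hfix) fun l hl => h3 _ (hl0 l hl)]
    rfl
  -- the first pin
  obtain ⟨x, Rx, hx3, hpin⟩ : ∃ x, Rot (mk φ x) ∧ x * x * x = 1 ∧
      evW (mk φ x) (Data.powWord Data.pin1) = 1 := by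
    rcases (R.pows_side1 (selfCentral1 hcard hinj hrange hφt) mk_acts1).2 with h | h
    · exact ⟨g1, R, hcube, h⟩
    · have hflip : SideAct.flip (mk φ g1) = mk φ (g1 * t) := by
        funext l
        unfold SideAct.flip
        split_ifs with h12 h13
        · rw [h12, mk12, mk12, eT]
        · rw [h13, mk13, mk12, eT]
        · simp only [mk, h12, h13, if_false]
      refine ⟨g1 * t, hflip ▸ R.flip, ?_, ?_⟩
      · have := R.flip_cube (by rw [mk12]; exact hcube)
        rwa [hflip, mk12] at this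
      · have hp : evW (mk φ g1) (Data.pinFix1 ++ Data.pinFix1) = evW (mk φ g1) [] :=
          transfer (by decide +kernel) (by simp) (eq_of_same (by decide +kernel))
        rw [← hflip, R.pin1_flip mk_acts1, h, ← evW_append, hp, evW_nil]
  set f := mk φ x with hf
  have e1x : x * t * x⁻¹ = a := by
    have := Rx.rot_t; rwa [hf, mk12, eT, eA] at this
  have hC := mk_rels (φ := φ) (x := x) hsat
  have hg : ∀ w ∈ Data.gRels, evW f w = 1 := by
    intro w hw
    have hsplit : Data.gRels = [12, 12, 12] :: Data.gRels.tail := rfl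
    rw [hsplit, List.mem_cons] at hw
    rcases hw with rfl | hw
    · simp only [evW_cons, evW_nil, mul_one, hf, mk12, ← mul_assoc, hx3]
    · exact (T x).gRels_of_rotation mk12 mk13 (mk12 (φ := φ) (x := x) ▸ Rx.r14)
        (mk12 (φ := φ) (x := x) ▸ Rx.r16) (mk12 (φ := φ) (x := x) ▸ Rx.r18) w hw
  obtain ⟨hp1, -⟩ := Rx.pows_side1 (selfCentral1 hcard hinj hrange hφt) mk_acts1
  obtain ⟨hp2, hpin2⟩ := Rx.pows_side2 (selfCentral2 hcard hinj hrange hφt) mk_acts2
  have hex1 : ∀ r ∈ Data.ex1, evW f r = 1 := by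
    refine Rx.ex1_eq_one mk_inv (selfCentral1 hcard hinj hrange hφt) mk_acts1 (fun w hw => ?_)
      (mk_meet hinj _ _ isC_aWords1 (by decide +kernel) meet1)
    simp only [List.mem_append, List.mem_cons, List.not_mem_nil, or_false] at hw
    rcases hw with ((hw | hw) | hw) | rfl
    · exact hC w (List.mem_append_left _ (List.mem_append_right _ hw))
    · exact hg w hw
    · exact hp1 w hw
    · exact hpin
  have hfree : ∀ w ∈ Data.freeRels, evW f w = 1 := by
    intro w hw
    simp only [Data.freeRels, List.mem_append] at hw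
    rcases hw with ((hw | hw) | hw) | hw
    · exact hC w (List.mem_append_left _ (List.mem_append_left _ hw))
    · exact hg w hw
    · exact hp1 w hw
    · exact hp2 w hw
  have hcl : f 12 ∉ cGroup f := by
    intro h
    have hle : cGroup f ≤ centralizer ({t} : Set G) := by
      refine (Subgroup.closure_le _).2 ?_
      rintro _ ⟨i, hi, rfl⟩
      have hic : IsC i := (by decide : ∀ j ∈ cLetters, IsC j) i hi
      rw [hf, mk_c hic, ← hrange]
      exact ⟨_, rfl⟩
    have hxt : x * t = t * x := by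
      have := mem_centralizer_singleton_iff.1 (hle h)
      rwa [hf, mk12] at this
    rw [hxt, mul_inv_cancel_right] at e1x
    exact hat e1x.symm
  rcases hpin2 with hpin2 | hpin2
  · have hex2 : ∀ r ∈ Data.ex2, evW f r = 1 := by
      refine Rx.ex2_eq_one mk_inv (selfCentral2 hcard hinj hrange hφt) mk_acts2 (fun w hw => ?_)
        (mk_meet hinj _ _ isC_aWords2 (by decide +kernel) meet2)
      simp only [List.mem_append, List.mem_cons, List.not_mem_nil, or_false] at hw
      rcases hw with ((hw | hw) | hw) | rfl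
      · exact hC w (List.mem_append_right _ hw)
      · exact hg w hw
      · exact hp2 w hw
      · exact hpin2
    refine ⟨f, ⟨mk_inv, fun w hw => ?_⟩, fun i hi => ?_, hcl⟩
    · simp only [Data.rels, List.mem_append, List.mem_cons, List.not_mem_nil, or_false] at hw
      rcases hw with ((hw | hw | hw) | hw) | hw
      · exact hfree w hw
      · exact hw ▸ hpin
      · exact hw ▸ hpin2
      · exact hex1 w hw
      · exact hex2 w hw
    · exact mk_c ((by decide : ∀ j ∈ cLetters, IsC j) i hi)
  · exfalso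
    refine hcl (CertBad.collapse ⟨mk_inv, fun w hw => ?_⟩)
    simp only [Data.badRels, List.mem_append, List.mem_cons, List.not_mem_nil, or_false] at hw
    rcases hw with (hw | hw | hw) | hw
    · exact hfree w hw
    · exact hw ▸ hpin
    · have hsplit : Data.pinBad = Data.powWord Data.pin2 ++ (Data.pinFix2.reverse.map McLUnique.invl) := by
        decide +kernel
      have he : evW (mk φ x) (Data.pinFix2 ++ Data.pinFix2.reverse.map McLUnique.invl) = evW (mk φ x) [] :=
        transfer (by decide +kernel) (by simp) (eq_of_same (by decide +kernel))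
      rw [hw, hsplit, evW_append, hpin2, ← evW_append, he, evW_nil]
    · exact hex1 w hw

end CfsgLib.McLUnique.LocalTop
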