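import Cfsg.Agent.Lib.McLUnique.ModelCodes
import Cfsg.Agent.Lib.McLUnique.ModelChainData

/-!
A straight-line program of codes from the twenty letters and a chain of orbits on the 275 points show that
the letters generate the model.
-/

set_option autoImplicit false
set_option maxRecDepth 100000
set_option Elab.async false

namespace CfsgLib.McLUnique.Model

open Subgroup CfsgLib.Presented
open CfsgLib.Schur.MultiplierMcL
open CfsgLib.Golay.LeechOrbit (forceN forceN_eq)
open CfsgLib.McLUnique.ModelCodes (f2 rep_f2 f2_inv same eq_of_same ne_of_same)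

/-! ### The letters generate -/

/-- The code of an entry of the straight-line program. -/
noncomputable def chainCode (n : ℕ) : ℕ := (Data.codes ++ ModelChain.codes).getD n one

/-- The tests of a segment of the program. -/
noncomputable def linesTest (a n : ℕ) : Bool :=
  (List.range n).all fun j =>
    forceN (a + j) fun k =>
      let p := ModelChain.lines.getD k (0, 0)
      Nat.blt p.1 (20 + k) && Nat.blt p.2 (20 + k) &&
        Nat.beq (mul (chainCode p.1) (chainCode p.2)) (chainCode (20 + k))

theorem lines_ok0 : linesTest 0 90 = true := by decide +kernel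

theorem lines_ok1 : linesTest 90 90 = true := by decide +kernel

theorem lines_ok2 : linesTest 180 90 = true := by decide +kernel

theorem lines_ok3 : linesTest 270 67 = true := by decide +kernel

theorem exists_chainEl : ∀ n, ∃ x ∈ allGroup f2, Rep (chainCode n) x := by
  have hlc : Data.codes.length = 20 := by decide +kernel
  have hlt : (Data.codes ++ ModelChain.codes).length ≤ 357 := by decide +kernel
  intro n
  induction n using Nat.strong_induction_on with
  | _ n ih =>
    rcases Nat.lt_or_ge n 20 with h | h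
    · refine ⟨f2 n, Subgroup.subset_closure ⟨n, h, rfl⟩, ?_⟩
      rw [chainCode, List.getD_append _ _ _ _ (by omega)]
      exact rep_f2 n
    · rcases Nat.lt_or_ge n 357 with h' | h'
      · have key : ∀ a m, linesTest a m = true → a ≤ n - 20 → n - 20 < a + m →
            ∃ x ∈ allGroup f2, Rep (chainCode n) x := by
          intro a m hok h1 h2
          rw [linesTest, List.all_eq_true] at hok
          have hk := hok (n - 20 - a) (List.mem_range.2 (by omega))
          rw [forceN_eq, show a + (n - 20 - a) = n - 20 by omega, show 20 + (n - 20) = n by omega] at hk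
          simp only [Bool.and_eq_true, Nat.blt_eq] at hk
          obtain ⟨⟨k1, k2⟩, k3⟩ := hk
          obtain ⟨x, hx, hxr⟩ := ih _ k1
          obtain ⟨y, hy, hyr⟩ := ih _ k2
          exact ⟨x * y, mul_mem hx hy, Nat.eq_of_beq_eq_true k3 ▸ rep_mul hxr hyr⟩
        by_cases h0 : n - 20 < 90
        · exact key _ _ lines_ok0 (by omega) (by omega)
        by_cases h1 : n - 20 < 180
        · exact key _ _ lines_ok1 (by omega) (by omega)
        by_cases h2 : n - 20 < 270
        · exact key _ _ lines_ok2 (by omega) (by omega)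
        exact key _ _ lines_ok3 (by omega) (by omega)
      · refine ⟨1, one_mem _, ?_⟩
        rw [chainCode, List.getD_eq_default _ _ (by omega)]
        exact rep_one

/-- Each step reaches a new point from one reached before by one of the generators. -/
noncomputable def reachGo (gens : List ℕ) : List (ℕ × ℕ) → ℕ → Bool
  | [], _ => true
  | (g, x) :: rest, m => forceN m fun m => forceN (img (chainCode g) x) fun y =>
      gens.contains g && Nat.blt x 275 && Nat.testBit m x && !Nat.testBit m y &&
        reachGo gens rest (m ||| 2 ^ y)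

/-- A level of the chain: the generators fix the earlier points and the steps reach new points. -/
noncomputable def levelTest (fixed : List ℕ) (L : ℕ × List ℕ × List (ℕ × ℕ)) : Bool :=
  Nat.blt L.1 275 && (L.2.1.all fun g => fixed.all fun q => Nat.beq (img (chainCode g) q) q) &&
    reachGo L.2.1 L.2.2 (2 ^ L.1)

/-- The test of a chain. -/
noncomputable def chainTest : List (ℕ × List ℕ × List (ℕ × ℕ)) → List ℕ → Bool
  | [], _ => true
  | L :: rest, fixed => levelTest fixed L && chainTest rest (L.1 :: fixed)

/-- The bound of a chain. -/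
def chainSize (Ls : List (ℕ × List ℕ × List (ℕ × ℕ))) : ℕ := (Ls.map fun L => L.2.2.length + 1).prod

/-- The elements generated by the letters fixing the given points. -/
noncomputable def fixIn (fixed : List ℕ) : Subgroup H where
  carrier := {x | x ∈ allGroup f2 ∧ ∀ q ∈ fixed, phi x (Fin.ofNat 275 q) = Fin.ofNat 275 q}
  one_mem' := ⟨one_mem _, fun q _ => by rw [map_one]; rfl⟩
  mul_mem' := fun {x y} hx hy => ⟨mul_mem hx.1 hy.1, fun q hq => by
    rw [map_mul, Equiv.Perm.mul_apply, hy.2 q hq, hx.2 q hq]⟩
  inv_mem' := fun {x} hx => ⟨inv_mem hx.1, fun q hq => by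
    rw [map_inv, Equiv.Perm.inv_eq_iff_eq, hx.2 q hq]⟩

/-- The points that some element of a subgroup maps a point to. -/
theorem reached_of_reachGo {K : Subgroup H} {gens : List ℕ}
    (hgens : ∀ g ∈ gens, ∃ x ∈ K, Rep (chainCode g) x) (p : Fin 275) :
    ∀ (steps : List (ℕ × ℕ)) (m : ℕ) (S : Finset (Fin 275)), reachGo gens steps m = true →
      (∀ j : Fin 275, Nat.testBit m j = true ↔ j ∈ S) → (∀ j ∈ S, ∃ x ∈ K, phi x p = j) →
      ∃ S' : Finset (Fin 275), S.card + steps.length ≤ S'.card ∧ ∀ j ∈ S', ∃ x ∈ K, phi x p = j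
  | [], m, S, _, _, hS => ⟨S, (Nat.add_zero _).le, hS⟩
  | (g, i) :: rest, m, S, h, hm, hS => by
    simp only [reachGo, forceN_eq, Bool.and_eq_true, Bool.not_eq_true', List.contains_iff_mem,
      Nat.blt_eq] at h
    obtain ⟨⟨⟨⟨hg, hi⟩, hmi⟩, hmy⟩, hrest⟩ := h
    obtain ⟨y, hy, hyr⟩ := hgens g hg
    obtain ⟨x, hx, hxp⟩ := hS ⟨i, hi⟩ ((hm ⟨i, hi⟩).1 hmi)
    have hj : (phi y ⟨i, hi⟩ : ℕ) = img (chainCode g) i := (rep_img hyr ⟨i, hi⟩).symm
    set j := phi y ⟨i, hi⟩ with hjdef
    have hjS : j ∉ S := fun hin => by
      rw [← hj, (hm j).2 hin] at hmy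
      exact Bool.noConfusion hmy
    obtain ⟨S', hS', hS''⟩ := reached_of_reachGo hgens p rest _ (insert j S) hrest
      (fun k => by
        rw [← hj, Nat.testBit_or, Bool.or_eq_true, hm k, Nat.testBit_two_pow, decide_eq_true_eq,
          Finset.mem_insert, Fin.ext_iff]
        exact ⟨fun h => h.elim Or.inr fun e => Or.inl e.symm,
          fun h => h.elim (fun e => Or.inr e.symm) Or.inl⟩)
      (fun k hk => by
        rcases Finset.mem_insert.1 hk with rfl | hk
        · exact ⟨y * x, mul_mem hy hx, by rw [map_mul, Equiv.Perm.mul_apply, hxp]⟩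
        · exact hS k hk)
    refine ⟨S', le_trans ?_ hS', hS''⟩
    rw [Finset.card_insert_of_notMem hjS, List.length_cons]
    omega

theorem chainSize_le : ∀ (Ls : List (ℕ × List ℕ × List (ℕ × ℕ))) (fixed : List ℕ),
    (∀ q ∈ fixed, q < 275) → chainTest Ls fixed = true → chainSize Ls ≤ Nat.card (fixIn fixed)
  | [], fixed, _, _ => Nat.card_pos
  | (p, gens, steps) :: rest, fixed, hlt, h => by
    simp only [chainTest, levelTest, Bool.and_eq_true, List.all_eq_true, Nat.blt_eq] at h
    obtain ⟨⟨⟨hp, hfix⟩, hreach⟩, hrest⟩ := h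
    have ih := chainSize_le rest (p :: fixed) (List.forall_mem_cons.2 ⟨hp, hlt⟩) hrest
    have hgens : ∀ g ∈ gens, ∃ x ∈ fixIn fixed, Rep (chainCode g) x := fun g hg => by
      obtain ⟨x, hx, hxr⟩ := exists_chainEl g
      refine ⟨x, ⟨hx, fun q hq => Fin.ext ?_⟩, hxr⟩
      rw [← rep_img hxr, show ((Fin.ofNat 275 q : Fin 275) : ℕ) = q from Nat.mod_eq_of_lt (hlt q hq)]
      exact Nat.eq_of_beq_eq_true (hfix g hg q hq)
    obtain ⟨S, hS, hS'⟩ := reached_of_reachGo hgens ⟨p, hp⟩ steps (2 ^ p) {⟨p, hp⟩} hreach
      (fun j => by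
        rw [Nat.testBit_two_pow, decide_eq_true_eq, Finset.mem_singleton, Fin.ext_iff]
        exact eq_comm)
      (fun j hj => ⟨1, one_mem _, by rw [map_one, Finset.mem_singleton.1 hj]; rfl⟩)
    choose t htK ht using hS'
    have hle : fixIn (p :: fixed) ≤ fixIn fixed := fun x hx =>
      ⟨hx.1, fun q hq => hx.2 q (List.mem_cons_of_mem _ hq)⟩
    have hp' : Fin.ofNat 275 p = (⟨p, hp⟩ : Fin 275) := Fin.ext (Nat.mod_eq_of_lt hp)
    have hinj : Function.Injective fun a : S × fixIn (p :: fixed) =>
        (⟨t a.1 a.1.2 * a.2, mul_mem (htK _ a.1.2) (hle a.2.2)⟩ : fixIn fixed) := by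
      rintro ⟨i, x⟩ ⟨j, y⟩ e
      have e1 : t i i.2 * (x : H) = t j j.2 * (y : H) := congrArg Subtype.val e
      have e2 := congrArg (fun z => phi z ⟨p, hp⟩) e1
      have hx := x.2.2 p List.mem_cons_self
      have hy := y.2.2 p List.mem_cons_self
      rw [hp'] at hx hy
      simp only [map_mul, Equiv.Perm.mul_apply, hx, hy, ht] at e2
      obtain rfl := Subtype.ext e2
      exact Prod.ext rfl (Subtype.ext (mul_left_cancel e1))
    have hcard := Nat.card_le_card_of_injective _ hinj
    rw [Nat.card_prod, Nat.card_eq_finsetCard] at hcard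
    rw [Finset.card_singleton] at hS
    calc chainSize ((p, gens, steps) :: rest) = (steps.length + 1) * chainSize rest := by simp [chainSize]
      _ ≤ S.card * Nat.card (fixIn (p :: fixed)) := Nat.mul_le_mul (by omega) ih
      _ ≤ _ := hcard

theorem chain_ok : chainTest ModelChain.levels [] = true := by decide +kernel

theorem chain_size : chainSize ModelChain.levels = 898128000 := by decide +kernel

theorem allGroup_f2 : allGroup f2 = ⊤ := by
  refine Subgroup.eq_top_of_le_card _ ?_
  rw [card_H, ← chain_size]
  exact (chainSize_le _ [] (by simp) chain_ok).trans (Subgroup.card_le_of_le fun x hx => hx.1)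

end CfsgLib.McLUnique.Model
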