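import Cfsg.Agent.Lib.McLUnique.ModelSide
import Cfsg.Agent.Lib.McLUnique.ModelSideTwo

/-!
The letters of the model satisfy the relations.
-/

set_option autoImplicit false
set_option maxRecDepth 100000
set_option Elab.async false

namespace CfsgLib.McLUnique.Model

open Subgroup CfsgLib.Presented
open CfsgLib.Schur.MultiplierMcL
open CfsgLib.Golay.LeechOrbit (forceN forceN_eq)
open CfsgLib.McLUnique.ModelCodes (f2 rep_f2 f2_inv same eq_of_same ne_of_same)

theorem rels_ok0 : relsTest Data.rels 0 30 = true := by decide +kernel

theorem rels_ok1 : relsTest Data.rels 30 30 = true := by decide +kernel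

theorem rels_ok2 : relsTest Data.rels 60 30 = true := by decide +kernel

theorem rels_ok3 : relsTest Data.rels 90 30 = true := by decide +kernel

theorem rels_ok4 : relsTest Data.rels 120 30 = true := by decide +kernel

theorem rels_ok5 : relsTest Data.rels 150 30 = true := by decide +kernel

theorem rels_ok6 : relsTest Data.rels 180 30 = true := by decide +kernel

theorem rels_ok7 : relsTest Data.rels 210 30 = true := by decide +kernel

theorem rels_ok8 : relsTest Data.rels 240 30 = true := by decide +kernel

theorem rels_ok9 : relsTest Data.rels 270 30 = true := by decide +kernel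

theorem rels_ok10 : relsTest Data.rels 300 30 = true := by decide +kernel

theorem rels_ok11 : relsTest Data.rels 330 30 = true := by decide +kernel

theorem rels_ok12 : relsTest Data.rels 360 30 = true := by decide +kernel

theorem rels_sat : ∀ w ∈ Data.rels, evW f2 w = 1 := by
  intro w hw
  obtain ⟨i, hi, rfl⟩ := List.mem_iff_getElem.1 hw
  have hl : Data.rels.length ≤ 390 := by decide +kernel
  by_cases h0 : i < 30
  · exact evW_eq_one_of_relsTest rels_ok0 hi (by omega) (by omega)
  by_cases h1 : i < 60
  · exact evW_eq_one_of_relsTest rels_ok1 hi (by omega) (by omega)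
  by_cases h2 : i < 90
  · exact evW_eq_one_of_relsTest rels_ok2 hi (by omega) (by omega)
  by_cases h3 : i < 120
  · exact evW_eq_one_of_relsTest rels_ok3 hi (by omega) (by omega)
  by_cases h4 : i < 150
  · exact evW_eq_one_of_relsTest rels_ok4 hi (by omega) (by omega)
  by_cases h5 : i < 180
  · exact evW_eq_one_of_relsTest rels_ok5 hi (by omega) (by omega)
  by_cases h6 : i < 210
  · exact evW_eq_one_of_relsTest rels_ok6 hi (by omega) (by omega)
  by_cases h7 : i < 240
  · exact evW_eq_one_of_relsTest rels_ok7 hi (by omega) (by omega)
  by_cases h8 : i < 270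
  · exact evW_eq_one_of_relsTest rels_ok8 hi (by omega) (by omega)
  by_cases h9 : i < 300
  · exact evW_eq_one_of_relsTest rels_ok9 hi (by omega) (by omega)
  by_cases h10 : i < 330
  · exact evW_eq_one_of_relsTest rels_ok10 hi (by omega) (by omega)
  by_cases h11 : i < 360
  · exact evW_eq_one_of_relsTest rels_ok11 hi (by omega) (by omega)
  exact evW_eq_one_of_relsTest rels_ok12 hi (by omega) (by omega)

theorem sat_f2 : Sat Data.rels f2 := ⟨f2_inv, rels_sat⟩

/-- The relations used by the local step hold in the model. -/
theorem sat_side : ∀ w ∈ Data.cRels ++ Data.sideRels1 ++ Data.sideRels2, evW f2 w = 1 := by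
  intro w hw
  rcases List.mem_append.1 hw with hw | hw
  · rcases List.mem_append.1 hw with hw | hw
    · exact rels_sat w (List.mem_append_left _ (List.mem_append_left _ (List.mem_append_left _
        (List.mem_append_left _ (List.mem_append_left _ (List.mem_append_left _ hw))))))
    · exact side1_sat w hw
  · exact side2_sat w hw

end CfsgLib.McLUnique.Model
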