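import Cfsg.Agent.Lib.Schur.McLModel
import Cfsg.Agent.Lib.Fusion68.McLTwo
import Cfsg.Agent.Lib.Fusion68.McLInv
import Cfsg.Agent.Lib.Presented.DoubleCoverEquiv
import Cfsg.Agent.Lib.McLUnique.ModelChain
import Cfsg.Agent.Lib.McLUnique.ModelSat

/-!
The model of McL: the pair stabiliser on 275 points with coded permutations.

All involutions are conjugate, their centralisers are non-split double covers of the alternating group of
degree eight of order 40320. With the
index bound, the letters other than `g` generate the centraliser of the involution.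
-/

set_option autoImplicit false
set_option maxRecDepth 100000
set_option Elab.async false

namespace CfsgLib.McLUnique.Model

open Subgroup CfsgLib.Presented
open CfsgLib.Schur.MultiplierMcL
open CfsgLib.Golay.LeechOrbit (forceN forceN_eq)
open CfsgLib.McLUnique.ModelCodes (f2 rep_f2 f2_inv same eq_of_same ne_of_same)

/-- The model is the McLaughlin group. -/
noncomputable def equivMcL : H ≃* Cfsg.Spor.McL :=
  (MulEquiv.subgroupCongr H_eq).trans CfsgLib.Fusion68.McLTwo.equivPair.symm

theorem isConj_H {x y : H} (hx : orderOf x = 2) (hy : orderOf y = 2) : IsConj x y :=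
  (CfsgLib.Fusion68.McLInv.main (MulEquiv.subgroupCongr H_eq)).1 x y hx hy

theorem cover_H {t : H} (ht : orderOf t = 2) :
    Cfsg.IsNonsplitDoubleCover (centralizer ({t} : Set H)) (alternatingGroup (Fin 8)) := by
  obtain ⟨hone, s, hs, hcov⟩ := CfsgLib.Fusion68.McLInv.main (MulEquiv.subgroupCongr H_eq)
  obtain ⟨g, hg⟩ := isConj_iff.1 (hone s t hs ht)
  have h : (centralizer ({s} : Set H)).map (MulAut.conj g).toMonoidHom = centralizer ({t} : Set H) := by
    ext x
    rw [Subgroup.mem_map_equiv, mem_centralizer_singleton_iff, mem_centralizer_singleton_iff,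
      MulAut.conj_symm_apply, ← hg]
    constructor
    · intro hx
      have := congrArg (fun u => g * u * g⁻¹) hx
      group at this ⊢
      exact this
    · intro hx
      have := congrArg (fun u => g⁻¹ * u * g) hx
      group at this ⊢
      exact this
  exact isNonsplitDoubleCover_of_equiv
    (((MulAut.conj g).subgroupMap _).trans (MulEquiv.subgroupCongr h)) hcov

theorem card_centralizer_H {t : H} (ht : orderOf t = 2) :
    Nat.card (centralizer ({t} : Set H)) = 40320 := by
  obtain ⟨hc, ⟨q⟩, -⟩ := cover_H ht
  rw [Subgroup.card_eq_card_quotient_mul_card_subgroup (center (centralizer ({t} : Set H))), hc,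
    Nat.card_congr q.toEquiv]
  have h := two_mul_nat_card_alternatingGroup (α := Fin 8)
  rw [Nat.card_perm, Nat.card_fin, show (8 : ℕ).factorial = 40320 from rfl] at h
  omega

/-! ### The two involutions -/

/-- The central involution of the model's centraliser. -/
noncomputable def t0 : H := evW f2 Data.tWord

/-- The second involution. -/
noncomputable def a0 : H := evW f2 Data.aWord

theorem words_checks :
    (same (Data.tWord ++ Data.tWord) [] && !same Data.tWord [] &&
      (same (Data.aWord ++ Data.aWord) [] && !same Data.aWord []) &&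
      (!same Data.aWord Data.tWord && same (Data.aWord ++ Data.tWord) (Data.tWord ++ Data.aWord)) &&
      cLetters.all fun l => same (l :: Data.tWord) (Data.tWord ++ [l])) = true := by
  decide +kernel

theorem checks :
    orderOf t0 = 2 ∧ orderOf a0 = 2 ∧ a0 ≠ t0 ∧ a0 ∈ centralizer ({t0} : Set H) ∧
      ∀ i ∈ cLetters, Commute (f2 i) t0 := by
  have h := words_checks
  simp only [Bool.and_eq_true, Bool.not_eq_true', List.all_eq_true] at h
  obtain ⟨⟨⟨⟨ht2, ht1⟩, ha2, ha1⟩, hat, hcomm⟩, hl⟩ := h
  have hord : ∀ w, same (w ++ w) [] = true → same w [] = false → orderOf (evW f2 w) = 2 := fun w h2 h1 =>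
    orderOf_eq_prime (by rw [pow_two, ← evW_append, eq_of_same h2, evW_nil])
      (by simpa using ne_of_same h1)
  refine ⟨hord _ ht2 ht1, hord _ ha2 ha1, ne_of_same hat, mem_centralizer_singleton_iff.2 ?_,
    fun i hi => ?_⟩
  · rw [a0, t0, ← evW_append, eq_of_same hcomm, evW_append]
  · rw [commute_iff_eq, t0, ← evW_cons, eq_of_same (hl i hi), evW_append, evW_cons, evW_nil, mul_one]

theorem orderOf_t0 : orderOf t0 = 2 := checks.1

theorem orderOf_a0 : orderOf a0 = 2 := checks.2.1

theorem a0_ne_t0 : a0 ≠ t0 := checks.2.2.1

theorem a0_mem : a0 ∈ centralizer ({t0} : Set H) := checks.2.2.2.1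

/-- Letters commuting with the involution generate its centraliser, the index being small enough. -/
theorem cGroup_f2 (hb : IndexBound.{0} Data.rels) :
    cGroup f2 = centralizer ({t0} : Set H) := by
  have hle : cGroup f2 ≤ centralizer ({t0} : Set H) := by
    refine (Subgroup.closure_le _).2 ?_
    rintro _ ⟨i, hi, rfl⟩
    exact mem_centralizer_singleton_iff.2 (checks.2.2.2.2 i hi).eq
  refine Subgroup.eq_of_le_of_card_ge hle ?_
  have hbound := (hb H f2 sat_f2).2
  rw [card_centralizer_H orderOf_t0]
  rw [allGroup_f2, Subgroup.relIndex_top_right] at hbound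
  have h := (cGroup f2).card_mul_index
  rw [card_H] at h
  have := Nat.mul_le_mul_left (Nat.card (cGroup f2)) hbound
  omega

theorem card_cGroup_f2 (hb : IndexBound.{0} Data.rels) : Nat.card (cGroup f2) = 40320 := by
  rw [cGroup_f2 hb]
  exact card_centralizer_H orderOf_t0

end CfsgLib.McLUnique.Model
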