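import Cfsg.Agent.Lib.Schur.McLModel
import Cfsg.Agent.Lib.McLUnique.Data
import Cfsg.Agent.Lib.McLUnique.ModelSlp

/-!
The twenty letters in the stabiliser of the pair, and equality of words by codes on 275 points.
-/

set_option autoImplicit false
set_option maxRecDepth 100000
set_option Elab.async false

namespace CfsgLib.McLUnique.ModelCodes

open CfsgLib.Presented CfsgLib.Schur.MultiplierMcL

/-- All the codes of the straight-line program. -/
noncomputable def codeAt (n : ℕ) : ℕ := (gCodes ++ slpCodes).getD n one

/-- The test of one product. -/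
noncomputable def slpTest (k : ℕ) : Bool :=
  let p := Data.slp.getD k (0, 0)
  Nat.blt p.1 (7 + k) && Nat.blt p.2 (7 + k) && Nat.beq (mul (codeAt p.1) (codeAt p.2)) (codeAt (7 + k))

theorem slp_ok : ((List.range 172).all slpTest) = true := by decide +kernel

theorem exists_el : ∀ n, ∃ x : H, Rep (codeAt n) x := by
  intro n
  induction n using Nat.strong_induction_on with
  | _ n ih =>
    rcases Nat.lt_or_ge n 7 with h | h
    · refine ⟨gEl ⟨n, h⟩, ?_⟩
      have h7 : gCodes.length = 7 := by decide +kernel
      rw [codeAt, List.getD_append _ _ _ _ (by omega)]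
      have e := code_gEl ⟨n, h⟩
      rw [List.getD_eq_getElem _ _ (show n < gCodes.length by omega)] at e ⊢
      exact e
    · rcases Nat.lt_or_ge n 179 with h' | h'
      · have hk := List.all_eq_true.1 slp_ok (n - 7) (List.mem_range.2 (by omega))
        rw [slpTest, show 7 + (n - 7) = n by omega] at hk
        simp only [Bool.and_eq_true, Nat.blt_eq] at hk
        obtain ⟨⟨h1, h2⟩, h3⟩ := hk
        obtain ⟨x, hx⟩ := ih _ h1
        obtain ⟨y, hy⟩ := ih _ h2
        exact ⟨x * y, Nat.eq_of_beq_eq_true h3 ▸ rep_mul hx hy⟩
      · refine ⟨1, ?_⟩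
        have hl : (gCodes ++ slpCodes).length = 179 := by decide +kernel
        rw [codeAt, List.getD_eq_default _ _ (by omega)]
        exact rep_one

/-- The letters. -/
noncomputable def f2 (i : ℕ) : H :=
  if i < 20 then (exists_el (Data.slpLetters.getD i 0)).choose else 1

theorem letters_ok : ((List.range 20).all fun i =>
    Nat.beq (codeAt (Data.slpLetters.getD i 0)) (Data.codes.getD i one)) = true := by decide +kernel

theorem rep_f2 (i : ℕ) : Rep (Data.codes.getD i one) (f2 i) := by
  rcases Nat.lt_or_ge i 20 with h | h
  · rw [f2, if_pos h, ← Nat.eq_of_beq_eq_true (List.all_eq_true.1 letters_ok i (List.mem_range.2 h))]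
    exact (exists_el _).choose_spec
  · have hl : Data.codes.length = 20 := by decide +kernel
    rw [f2, if_neg (by omega), List.getD_eq_default _ _ (by omega)]
    exact rep_one

/-- The code of a word in the letters. -/
noncomputable def wc : List ℕ → ℕ
  | [] => one
  | l :: w => mul (Data.codes.getD l one) (wc w)

theorem rep_wc : ∀ w, Rep (wc w) (evW f2 w)
  | [] => rep_one
  | l :: w => by rw [evW_cons]; exact rep_mul (rep_f2 l) (rep_wc w)

/-- Two words have the same code. -/
noncomputable def same (u v : List ℕ) : Bool := Nat.beq (wc u) (wc v)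

theorem eq_of_same {u v : List ℕ} (h : same u v = true) : evW f2 u = evW f2 v :=
  rep_uniq (rep_wc u) ((Nat.eq_of_beq_eq_true h).symm ▸ rep_wc v)

theorem ne_of_same {u v : List ℕ} (h : same u v = false) : evW f2 u ≠ evW f2 v := fun e => by
  have := rep_code (rep_wc u) (e ▸ rep_wc v)
  rw [same, this] at h
  simp at h

theorem inv_ok : ((List.range 20).all fun i => same [invl i, i] []) = true := by decide +kernel

theorem f2_inv (i : ℕ) (hi : i < 20) : f2 (invl i) * f2 i = 1 := by
  simpa using eq_of_same (List.all_eq_true.1 inv_ok i (List.mem_range.2 hi))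

end CfsgLib.McLUnique.ModelCodes
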