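/-! Generated: words in the twenty letters for the seven generators of the model. -/

set_option autoImplicit false

namespace CfsgLib.McLUnique.ModelCodes

/-- Words in the letters for `gCodes`. -/
def genWords : List (List Nat) := [
  [5, 13, 3, 19, 13, 0, 12, 0, 0, 10, 4, 0, 8],
  [11, 3, 13, 11, 0, 12, 3, 6, 15],
  [13, 2, 6, 12, 0, 12, 3, 10, 4, 15],
  [7, 9, 12, 10, 3, 12, 6, 2, 14, 3],
  [0, 8, 4, 2, 8],
  [7, 3, 12, 3, 5, 12, 3, 6, 4, 8, 14],
  [4, 3, 4, 14, 8]]

end CfsgLib.McLUnique.ModelCodes
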