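import Cfsg.Agent.Lib.McLUnique.ModelRelsParts.Base0
import Cfsg.Agent.Lib.McLUnique.ModelRelsParts.Base1
import Cfsg.Agent.Lib.McLUnique.ModelRelsParts.Base2
import Cfsg.Agent.Lib.McLUnique.ModelRelsParts.Ex0
import Cfsg.Agent.Lib.McLUnique.ModelRelsParts.Ex1
import Cfsg.Agent.Lib.McLUnique.ModelRelsParts.Ex2
import Cfsg.Agent.Lib.McLUnique.ModelRelsParts.Side10
import Cfsg.Agent.Lib.McLUnique.ModelRelsParts.Side11
import Cfsg.Agent.Lib.McLUnique.ModelRelsParts.Side12
import Cfsg.Agent.Lib.McLUnique.ModelRelsParts.Side20
import Cfsg.Agent.Lib.McLUnique.ModelRelsParts.Side21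
import Cfsg.Agent.Lib.McLUnique.ModelRelsParts.Side22

/-!
The model satisfies the relations.
-/

set_option autoImplicit false
set_option maxRecDepth 100000

namespace CfsgLib.McLUnique.ModelCodes

open CfsgLib.Presented

theorem all_of_parts {L : List (List ℕ)} {p : List ℕ → Bool} {c : ℕ} (h0 : ((L.drop 0).take c).all p = true)
    (h1 : ((L.drop c).take c).all p = true) (h2 : (L.drop (2 * c)).all p = true) : L.all p = true := by
  have e : L = (L.drop 0).take c ++ ((L.drop c).take c ++ L.drop (2 * c)) := by
    rw [List.drop_zero]
    conv_lhs => rw [← List.take_append_drop c L, ← List.take_append_drop c (L.drop c), List.drop_drop]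
    rw [two_mul]
  rw [e, List.all_append, List.all_append, h0, h1, h2]
  rfl

theorem cgOk : ((Data.cRels ++ Data.gRels ++ Data.pows1.map Data.powWord ++ Data.pows2.map Data.powWord ++
    [Data.powWord Data.pin1, Data.powWord Data.pin2]).all
    fun w => same w []) = true := all_of_parts cgOk0 cgOk1 cgOk2

theorem exOk : ((Data.ex1 ++ Data.ex2).all
    fun w => same w []) = true := all_of_parts exOk0 exOk1 exOk2

theorem side1Ok : ((Data.sideRels1).all
    fun w => same w []) = true := all_of_parts side1Ok0 side1Ok1 side1Ok2

theorem side2Ok : ((Data.sideRels2).all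
    fun w => same w []) = true := all_of_parts side2Ok0 side2Ok1 side2Ok2

theorem eq_one_of_all {L : List (List ℕ)} (h : (L.all fun w => same w []) = true) :
    ∀ w ∈ L, evW f2 w = 1 := fun w hw => by
  simpa using eq_of_same (List.all_eq_true.1 h w hw)

/-- The relations used before the pins are chosen. -/
theorem base_ok : ∀ w ∈ Data.cRels ++ Data.sideRels1 ++ Data.sideRels2, evW f2 w = 1 := by
  intro w hw
  simp only [List.mem_append] at hw
  rcases hw with (h | h) | h
  · refine eq_one_of_all cgOk w ?_
    simp only [List.mem_append]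
    exact Or.inl (Or.inl (Or.inl (Or.inl h)))
  · exact eq_one_of_all side1Ok w h
  · exact eq_one_of_all side2Ok w h

/-- **The model satisfies the relations of McL.** -/
theorem sat_rels : Sat Data.rels f2 := by
  refine ⟨f2_inv, fun w hw => ?_⟩
  simp only [Data.rels, Data.freeRels, List.mem_append] at hw
  rcases hw with (((((h | h) | h) | h) | h) | h) | h
  · exact eq_one_of_all cgOk w (by simp only [List.mem_append]; tauto)
  · exact eq_one_of_all cgOk w (by simp only [List.mem_append]; tauto)
  · exact eq_one_of_all cgOk w (by simp only [List.mem_append]; tauto)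
  · exact eq_one_of_all cgOk w (by simp only [List.mem_append]; tauto)
  · exact eq_one_of_all cgOk w (by simp only [List.mem_append]; tauto)
  · exact eq_one_of_all exOk w (by simp only [List.mem_append]; tauto)
  · exact eq_one_of_all exOk w (by simp only [List.mem_append]; tauto)

end CfsgLib.McLUnique.ModelCodes
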