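import Cfsg.Agent.Lib.McLUnique.ModelTest

/-!
The letters of the model satisfy the first list of relations used by the local step.
-/

set_option autoImplicit false
set_option maxRecDepth 100000
set_option Elab.async false

namespace CfsgLib.McLUnique.Model

open Subgroup CfsgLib.Presented
open CfsgLib.Schur.MultiplierMcL
open CfsgLib.Golay.LeechOrbit (forceN forceN_eq)
open CfsgLib.McLUnique.ModelCodes (f2 rep_f2 f2_inv same eq_of_same ne_of_same)

theorem side1_ok0 : relsTest Data.sideRels1 0 30 = true := by decide +kernel

theorem side1_ok1 : relsTest Data.sideRels1 30 30 = true := by decide +kernel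

theorem side1_ok2 : relsTest Data.sideRels1 60 30 = true := by decide +kernel

theorem side1_ok3 : relsTest Data.sideRels1 90 30 = true := by decide +kernel

theorem side1_ok4 : relsTest Data.sideRels1 120 30 = true := by decide +kernel

theorem side1_ok5 : relsTest Data.sideRels1 150 30 = true := by decide +kernel

theorem side1_ok6 : relsTest Data.sideRels1 180 30 = true := by decide +kernel

theorem side1_ok7 : relsTest Data.sideRels1 210 30 = true := by decide +kernel

theorem side1_sat : ∀ w ∈ Data.sideRels1, evW f2 w = 1 := by
  intro w hw
  obtain ⟨i, hi, rfl⟩ := List.mem_iff_getElem.1 hw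
  have hl : Data.sideRels1.length ≤ 240 := by decide +kernel
  by_cases h0 : i < 30
  · exact evW_eq_one_of_relsTest side1_ok0 hi (by omega) (by omega)
  by_cases h1 : i < 60
  · exact evW_eq_one_of_relsTest side1_ok1 hi (by omega) (by omega)
  by_cases h2 : i < 90
  · exact evW_eq_one_of_relsTest side1_ok2 hi (by omega) (by omega)
  by_cases h3 : i < 120
  · exact evW_eq_one_of_relsTest side1_ok3 hi (by omega) (by omega)
  by_cases h4 : i < 150
  · exact evW_eq_one_of_relsTest side1_ok4 hi (by omega) (by omega)
  by_cases h5 : i < 180
  · exact evW_eq_one_of_relsTest side1_ok5 hi (by omega) (by omega)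
  by_cases h6 : i < 210
  · exact evW_eq_one_of_relsTest side1_ok6 hi (by omega) (by omega)
  exact evW_eq_one_of_relsTest side1_ok7 hi (by omega) (by omega)

end CfsgLib.McLUnique.Model
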