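import Cfsg.Agent.Lib.McLUnique.ModelCodes

/-!
A test that the letters of the model satisfy a segment of a list of relations.
-/

set_option autoImplicit false
set_option maxRecDepth 100000
set_option Elab.async false

namespace CfsgLib.McLUnique.Model

open Subgroup CfsgLib.Presented
open CfsgLib.Schur.MultiplierMcL
open CfsgLib.Golay.LeechOrbit (forceN forceN_eq)
open CfsgLib.McLUnique.ModelCodes (f2 rep_f2 f2_inv same eq_of_same ne_of_same)

/-- The tests of a segment of the relations. -/
noncomputable def relsTest (l : List (List ℕ)) (a n : ℕ) : Bool :=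
  ((l.drop a).take n).all fun w => same w []

theorem evW_eq_one_of_relsTest {l : List (List ℕ)} {a n i : ℕ} (hok : relsTest l a n = true)
    (hi : i < l.length) (h1 : a ≤ i) (h2 : i < a + n) : evW f2 l[i] = 1 := by
  rw [relsTest, List.all_eq_true] at hok
  exact eq_of_same (hok _ (List.mem_iff_getElem.2 ⟨i - a, by simp; omega, by
    simp only [List.getElem_take, List.getElem_drop]
    congr 1
    omega⟩))

end CfsgLib.McLUnique.Model
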